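import Cfsg.Agent.Lib.KnownC.AutPOmega.Parity
import Cfsg.Agent.Lib.KnownC.AutPSU.Balance.Common

/-!
# Local balance for automorphisms with a descent datum over a field automorphism of odd prime order
-/

set_option autoImplicit false
set_option linter.unusedSectionVars false
set_option linter.style.haveILetI false

open Module QuadraticMap
open scoped Matrix

namespace CfsgLib.KnownC.AutPOmega.Balance

open CfsgLib.Orth CfsgLib.Classical
open CfsgLib.KnownC.POmegaAut (GS Φ Φ_mk lin lin_apply lin_injective ofOrth lin_ofOrth IsSemiInduced exists_mult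
  omegaSub mem_omegaSub_iff inn_eq mkGS lin_mkGS conjΩ isometry_le_GS)
open CfsgLib.KnownC.AutPSU.Balance (fixPts conj_apply_aut conj_mem_centralizer core_invariant core_bot
  zpowers_of_fix eq_one_of_zpowers)

universe u v

variable {F : Type u} [Field F] [Fintype F] {ι : Type} [Fintype ι] [DecidableEq ι] {Qf : (ι → F) → F}
  {F₀ : Type v} [Field F₀] [Fintype F₀] {κ : Type} [Fintype κ] [DecidableEq κ]
  {Q : QuadraticForm F (ι → F)} {A : GL ι F} {σ : F ≃+* F} {emb : F₀ →+* F}
  {P₀ : QuadraticForm F₀ (κ → F₀)} {P : QuadraticForm F (κ → F)} {P₀f : (κ → F₀) → F₀}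
  (hQf : ∀ v, Qf v = Q v) (hP₀f : ∀ w, P₀f w = P₀ w) [hQ : OCtx Q] [hP : OCtx P₀]
  (D : Desc Q A σ emb P₀ P)

include hQ hP

/-- An automorphism of order prime to `p` centralising the group over the fixed field is trivial. -/
theorem eq_one_of_fix_desc (hι : ∀ x, σ x = x ↔ x ∈ Set.range emb) {p : ℕ} (hσp : orderOf σ = p)
    (n : MulAut (Cfsg.POmega F Qf)) (hcop : (orderOf n).Coprime p)
    (hfix : ∀ w ∈ omegaSub P₀f, n * Φ Qf (D.bc hQf hP₀f w) = Φ Qf (D.bc hQf hP₀f w) * n) : n = 1 := by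
  classical
  obtain ⟨g, τ, hn, hn'⟩ := exists_semi Q hQf n
  let T : (ι → F) → (ι → F) := fun y => (g : Matrix ι ι F) *ᵥ fun i => τ (y i)
  have hTadd : ∀ y z, T (y + z) = T y + T z := fun y z => by
    simp only [T, ← Matrix.mulVec_add]; congr 1; funext i; simp
  have hTsmul : ∀ (a : F) y, T (a • y) = τ a • T y := fun a y => by
    simp only [T, ← Matrix.mulVec_smul]; congr 1; funext i; simp
  have hTinj : ∀ y, T y = 0 → y = 0 := fun y hy => by
    have h0 := congrArg (fun z => ((g⁻¹ : GL ι F) : Matrix ι ι F) *ᵥ z) hy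
    simp only [T, Matrix.mulVec_mulVec, Units.inv_mul, Matrix.one_mulVec, Matrix.mulVec_zero] at h0
    funext i
    simpa using congrFun h0 i
  obtain ⟨μ, hμ⟩ := id hn
  have hQT : ∀ y, Q (T y) = μ * τ (Q y) := fun y => by rw [← hQf, ← hQf]; exact hμ y
  let j : (κ → F₀) → (ι → F) := fun w => D.e (⇑emb ∘ w)
  have hjadd : ∀ a b, j (a + b) = j a + j b := fun a b => by
    simp only [j, ← map_add]; congr 1; funext i; simp
  have hjsmul : ∀ (a : F₀) w, j (a • w) = emb a • j w := fun a w => by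
    simp only [j, ← map_smul]; congr 1; funext i; simp
  have hQj : ∀ w, Q (j w) = D.z * emb (P₀ w) := fun w => by rw [D.hQ, D.hemb]
  have hBj : ∀ a b, polar Q (j a) (j b) = D.z * emb (polar P₀ a b) := fun a b => by
    simp only [polar, ← hjadd, hQj, map_sub]; ring
  have hj0 : ∀ w, j w = 0 → w = 0 := fun w hw => by
    rw [LinearEquiv.map_eq_zero_iff] at hw
    funext i
    exact emb.injective ((congrFun hw i).trans (map_zero emb).symm)
  let bas := (Pi.basisFun F κ).map D.e
  have hbas : ∀ i, bas i = j (Pi.single i 1) := fun i => by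
    simp only [bas, Basis.map_apply, Pi.basisFun_apply, j]
    congr 1
    funext l
    simp [Pi.single_apply, apply_ite emb]
  have hnd : ∀ x, (∀ w, polar Q x (j w) = 0) → x = 0 := fun x hx => hQ.nd.1 x fun y => by
    have h0 : QuadraticMap.polarBilin Q x = 0 := bas.ext fun i => by rw [hbas]; exact hx _
    exact LinearMap.congr_fun h0 y
  obtain ⟨y₀, hy₀⟩ : ∃ y, Q (T y) ≠ 0 := by
    obtain ⟨y, hy⟩ := exists_value_ne Q
    exact ⟨y, by rw [hQT]; exact mul_ne_zero μ.ne_zero ((map_ne_zero τ).2 hy)⟩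
  -- Siegel transformations over the fixed field commute with `T` up to a sign
  have hcomm : ∀ (e u : κ → F₀), P₀ e = 0 → polar P₀ e u = 0 → ∃ c : F, (c = 1 ∨ c = -1) ∧
      ∀ y, T (y + (D.z⁻¹ * polar Q (j e) y) • j u +
          (D.z⁻¹ * (-(polar Q (j u) y) - emb (P₀ u) * polar Q (j e) y)) • j e) =
        c • (T y + (D.z⁻¹ * polar Q (j e) (T y)) • j u +
          (D.z⁻¹ * (-(polar Q (j u) (T y)) - emb (P₀ u) * polar Q (j e) (T y))) • j e) := by
    intro e u he hu
    set w := ofOrth P₀f P₀ hP₀f (sg P₀ e u).1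
    have hw : w ∈ omegaSub P₀f := (mem_omegaSub_iff _ _ hP₀f _).2 ⟨_, (sg P₀ e u).2, rfl⟩
    set W := D.bc hQf hP₀f w
    have hW : ∀ y, lin Qf W y = y + (D.z⁻¹ * polar Q (j e) y) • j u +
        (D.z⁻¹ * (-(polar Q (j u) y) - emb (P₀ u) * polar Q (j e) y)) • j e := by
      let B := QuadraticMap.polarBilin Q
      have h1 : (lin Qf W : (ι → F) →ₗ[F] (ι → F)) = LinearMap.id + (D.z⁻¹ • B (j e)).smulRight (j u) +
          (D.z⁻¹ • (-(B (j u)) - emb (P₀ u) • B (j e))).smulRight (j e) := by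
        refine bas.ext fun i => ?_
        rw [hbas]
        have e1 : lin Qf W (j (Pi.single i 1)) = j ((sg P₀ e u).1.1 (Pi.single i 1)) := by
          show lin Qf W (D.e _) = D.e _
          rw [D.bc_apply, mulVec_comp, ← lin_apply, lin_ofOrth]
        simp only [LinearEquiv.coe_coe, LinearMap.add_apply, LinearMap.id_coe, id_eq, LinearMap.smulRight_apply,
          LinearMap.smul_apply, LinearMap.sub_apply, LinearMap.neg_apply, smul_eq_mul, B,
          QuadraticMap.polarBilin_apply_apply, e1, sg_apply he hu, hjadd, hjsmul, hBj, map_sub, map_neg, map_mul]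
        have := D.hz
        match_scalars <;> field_simp
      intro y
      simpa [B] using LinearMap.congr_fun h1 y
    have h1 := semi_left W ⟨hn, hn'⟩
    have h2 := semi_right ⟨hn, hn'⟩ W
    rw [hfix w hw] at h2
    obtain ⟨c, hc⟩ := semi_same Q hQf h1 h2
    have key : ∀ y, T (lin Qf W y) = (c : F) • lin Qf W (T y) := fun y => by
      have e1 := congrArg (fun M : GL ι F => (M : Matrix ι ι F) *ᵥ fun i => τ (y i)) hc
      simp only [Units.val_mul, sclM_coe, ← Matrix.mulVec_mulVec, Matrix.smul_mulVec, Matrix.one_mulVec] at e1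
      rw [show ((Matrix.GeneralLinearGroup.map τ.toRingHom W.1 : GL ι F) : Matrix ι ι F) *ᵥ (fun i => τ (y i)) =
        fun i => τ ((((W.1 : GL ι F) : Matrix ι ι F) *ᵥ y) i) from POmegaAut.map_mulVec' τ _ y] at e1
      rw [lin_apply, lin_apply]
      exact e1
    have hWQ : ∀ y, Q (lin Qf W y) = Q y := fun y => by
      have := D.bc_simil hQf hP₀f w (μ := 1) (fun v => by
        rw [lin_ofOrth, one_mul]; exact apply_quad (sg P₀ e u).1 v) y
      rwa [map_one, one_mul] at this
    refine ⟨c, ?_, fun y => ?_⟩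
    · have e1 := hQT (lin Qf W y₀)
      rw [key, quad_smul', hWQ, hWQ, ← hQT] at e1
      exact mul_self_eq_one_iff.1 (mul_right_cancel₀ hy₀ (e1.trans (one_mul _).symm))
    · rw [← hW, ← hW]; exact key y
  obtain ⟨hp⟩ := hyp (Q := P₀)
  -- the two singular lines of a hyperbolic pair
  have axis : ∀ (e f x : κ → F₀), P₀ e = 0 → P₀ f = 0 → polar P₀ e f = 1 → x ≠ 0 → polar P₀ e x = 0 →
      polar P₀ f x = 0 →
      (∀ u, polar P₀ e u = 0 → polar P₀ f u = 0 → ∀ y,
        T (y + (D.z⁻¹ * polar Q (j e) y) • j u +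
          (D.z⁻¹ * (-(polar Q (j u) y) - emb (P₀ u) * polar Q (j e) y)) • j e) =
        T y + (D.z⁻¹ * polar Q (j e) (T y)) • j u +
          (D.z⁻¹ * (-(polar Q (j u) (T y)) - emb (P₀ u) * polar Q (j e) (T y))) • j e) ∧
      ∃ l : F, l ≠ 0 ∧ T (j e) = l • j e := by
    intro e f x he hf hef hx0 hex hfx
    have hje : polar Q (j e) (j e) = 0 := by rw [polar_self', hQj, he, map_zero]; ring
    set E := T (j e) with hE
    have hE0 : E ≠ 0 := fun h0 => by
      have h1 := hj0 _ (hTinj _ h0)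
      rw [h1, polar_zero_left] at hef
      exact zero_ne_one hef
    have hee : polar P₀ e e = 0 := by rw [polar_self', he]; ring
    have main : ∀ u, polar P₀ e u = 0 → polar P₀ f u = 0 →
        (∀ y, T (y + (D.z⁻¹ * polar Q (j e) y) • j u +
          (D.z⁻¹ * (-(polar Q (j u) y) - emb (P₀ u) * polar Q (j e) y)) • j e) =
        T y + (D.z⁻¹ * polar Q (j e) (T y)) • j u +
          (D.z⁻¹ * (-(polar Q (j u) (T y)) - emb (P₀ u) * polar Q (j e) (T y))) • j e) := by
      intro u hu huf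
      obtain ⟨c, hc, hcy⟩ := hcomm e u he hu
      by_cases hc1 : c = 1
      · intro y
        rw [hcy y, hc1, one_smul]
      exfalso
      have hcm : c = -1 := hc.resolve_left hc1
      have h2 : (2 : F) ≠ 0 := fun h2 => hc1 (by rw [hcm]; linear_combination -h2)
      have hju : polar Q (j u) (j e) = 0 := by rw [hBj, polar_comm, hu, map_zero, mul_zero]
      have e1 := hcy (j e)
      rw [hje, hju, mul_zero, zero_smul, add_zero, neg_zero, mul_zero, sub_zero, mul_zero, zero_smul, add_zero,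
        ← hE, hcm] at e1
      have e2 := congrArg (polar Q (j e)) e1
      simp only [polar_add_right, polar_smul_r', hBj e u, hu, hje, map_zero, mul_zero, add_zero] at e2
      have h3 : polar Q (j e) E = 0 := mul_left_cancel₀ h2 (by linear_combination e2)
      rw [h3, mul_zero, zero_smul, add_zero, mul_zero, sub_zero] at e1
      have e3 := congrArg (polar Q (j u)) e1
      simp only [polar_add_right, polar_smul_r', hju, mul_zero, add_zero] at e3
      have h4 : polar Q (j u) E = 0 := mul_left_cancel₀ h2 (by linear_combination e3)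
      rw [h4, neg_zero, mul_zero, zero_smul, add_zero] at e1
      exact hE0 ((smul_eq_zero.1 (show (2 : F) • E = 0 by linear_combination (norm := module) e1)).resolve_left h2)
    refine ⟨main, ?_⟩
    have key : ∀ u, polar P₀ e u = 0 → polar P₀ f u = 0 → u ≠ 0 →
        polar Q (j e) E = 0 ∧ polar Q (j u) E = 0 := by
      intro u hu huf hu0
      have hju : polar Q (j u) (j e) = 0 := by rw [hBj, polar_comm, hu, map_zero, mul_zero]
      have hz := inv_ne_zero D.hz
      have e1 := main u hu huf (j e)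
      rw [hje, hju, mul_zero, zero_smul, add_zero, neg_zero, mul_zero, sub_zero, mul_zero, zero_smul, add_zero,
        ← hE, add_assoc, left_eq_add] at e1
      have hb : D.z⁻¹ * (-(polar Q (j u) E) - emb (P₀ u) * polar Q (j e) E) = 0 := by
        have e2 := congrArg (polar Q (j f)) e1
        simpa only [polar_add_right, polar_smul_r', hBj f u, huf, hBj f e, polar_comm _ f e, hef, map_zero, map_one,
          mul_zero, zero_add, mul_one, polar_zero_right, mul_eq_zero, D.hz, or_false] using e2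
      rw [hb, zero_smul, add_zero, smul_eq_zero] at e1
      have ha : polar Q (j e) E = 0 := by
        rcases e1 with e1 | e1
        · exact (mul_eq_zero.1 e1).resolve_left hz
        · exact absurd (hj0 u e1) hu0
      refine ⟨ha, ?_⟩
      rw [ha, mul_zero, sub_zero] at hb
      exact neg_eq_zero.1 ((mul_eq_zero.1 hb).resolve_left hz)
    have hEe : polar Q (j e) E = 0 := (key x hex hfx hx0).1
    refine ⟨D.z⁻¹ * polar Q (j f) E, fun h0 => hE0 ?_, sub_eq_zero.1 (hnd _ fun w => ?_)⟩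
    · refine hnd _ fun w => ?_
      set u := w - polar P₀ f w • e - polar P₀ e w • f with hu
      have hu1 : polar P₀ e u = 0 := by simp [hu, polar_sub_right, polar_smul_r', hef, hee]
      have hu2 : polar P₀ f u = 0 := by
        simp [hu, polar_sub_right, polar_smul_r', polar_comm _ f e, hef, polar_self', hf]
      have hu3 : polar Q (j u) E = 0 := by
        by_cases h : u = 0
        · rw [h, show j (0 : κ → F₀) = 0 from by simp [j, Function.comp_def]; rfl, polar_zero_left]
        · exact (key u hu1 hu2 h).2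
      have hw : w = u + polar P₀ f w • e + polar P₀ e w • f := by rw [hu]; abel
      rw [hw, hjadd, hjadd, hjsmul, hjsmul, polar_comm, polar_add_left, polar_add_left, polar_smul_l',
        polar_smul_l', hu3, hEe, (mul_eq_zero.1 h0).resolve_left (inv_ne_zero D.hz)]
      ring
    · set u := w - polar P₀ f w • e - polar P₀ e w • f with hu
      have hu1 : polar P₀ e u = 0 := by simp [hu, polar_sub_right, polar_smul_r', hef, hee]
      have hu2 : polar P₀ f u = 0 := by
        simp [hu, polar_sub_right, polar_smul_r', polar_comm _ f e, hef, polar_self', hf]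
      have hu3 : polar Q (j u) E = 0 := by
        by_cases h : u = 0
        · rw [h, show j (0 : κ → F₀) = 0 from by simp [j, Function.comp_def]; rfl, polar_zero_left]
        · exact (key u hu1 hu2 h).2
      have hju : polar Q (j e) (j u) = 0 := by rw [hBj, hu1, map_zero, mul_zero]
      have hef' : polar Q (j f) (j e) = D.z := by rw [hBj, polar_comm, hef, map_one, mul_one]
      have hw : w = u + polar P₀ f w • e + polar P₀ e w • f := by rw [hu]; abel
      rw [hw, hjadd, hjadd, hjsmul, hjsmul, polar_comm, polar_sub_right, polar_smul_r']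
      simp only [polar_add_left, polar_smul_l', hu3, hEe, polar_comm _ (j u) (j e), hju, hje, hef']
      have := D.hz
      field_simp
      ring
  have he1 : hp.e₁ ≠ 0 := fun h => zero_ne_one (by
    rw [← hp.h11, h, polar_zero_left])
  have hf00 : polar P₀ hp.f₀ hp.e₀ = 1 := by rw [polar_comm, hp.h00]
  obtain ⟨hE, l, hl0, hl⟩ := axis hp.e₀ hp.f₀ hp.e₁ hp.he₀ hp.hf₀ hp.h00 he1 hp.hee hp.hfe
  obtain ⟨hF, l', -, hl'⟩ := axis hp.f₀ hp.e₀ hp.e₁ hp.hf₀ hp.he₀ hf00 he1 hp.hfe hp.hee
  have hje : polar Q (j hp.e₀) (j hp.e₀) = 0 := by rw [polar_self', hQj, hp.he₀, map_zero]; ring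
  have hjf : polar Q (j hp.f₀) (j hp.f₀) = 0 := by rw [polar_self', hQj, hp.hf₀, map_zero]; ring
  have hef : polar Q (j hp.e₀) (j hp.f₀) = D.z := by rw [hBj, hp.h00, map_one, mul_one]
  have hline : ∀ u, polar P₀ hp.e₀ u = 0 → polar P₀ hp.f₀ u = 0 → u ≠ 0 →
      T (j u) = l • j u ∧ l' = l ∧ τ (emb (P₀ u)) = emb (P₀ u) := by
    intro u hu hu' hu0
    have hue : polar Q (j hp.e₀) (j u) = 0 := by rw [hBj, hu, map_zero, mul_zero]
    have huf : polar Q (j hp.f₀) (j u) = 0 := by rw [hBj, hu', map_zero, mul_zero]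
    have hue' : polar Q (j u) (j hp.e₀) = 0 := (polar_comm _ _ _).trans hue
    have huf' : polar Q (j u) (j hp.f₀) = 0 := (polar_comm _ _ _).trans huf
    have hfe : polar Q (j hp.f₀) (j hp.e₀) = D.z := (polar_comm _ _ _).trans hef
    have hz := D.hz
    have e1 := hE u hu hu' (j hp.f₀)
    have e2 := hF u hu' hu (j hp.e₀)
    simp only [hef, hl', hl, polar_smul_r', hfe, hue', huf',
      mul_zero, neg_zero, zero_sub, inv_mul_cancel₀ hz, one_smul, hTadd, hTsmul] at e1 e2
    have c1 : ∀ c : F, D.z⁻¹ * -(c * D.z) = -c := fun c => by field_simp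
    have c2 : ∀ c d : F, D.z⁻¹ * -(c * (d * D.z)) = -(c * d) := fun c d => by field_simp
    have c3 : ∀ c : F, D.z⁻¹ * (c * D.z) = c := fun c => by field_simp
    simp only [c1, c2, c3, map_neg] at e1 e2
    have f1 : T (j u) = l' • j u + (τ (emb (P₀ u)) * l - emb (P₀ u) * l') • j hp.e₀ := by
      linear_combination (norm := module) e1
    have f2 : T (j u) = l • j u + (τ (emb (P₀ u)) * l' - emb (P₀ u) * l) • j hp.f₀ := by
      linear_combination (norm := module) e2
    have g := f1.symm.trans f2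
    have g1 := congrArg (polar Q (j hp.f₀)) g
    simp only [polar_add_right, polar_smul_r', huf, hjf, polar_comm _ (j hp.f₀) (j hp.e₀), hef, mul_zero,
      zero_add, add_zero, mul_eq_zero, hz, or_false] at g1
    have g2 := congrArg (polar Q (j hp.e₀)) g
    simp only [polar_add_right, polar_smul_r', hue, hje, hef, mul_zero, zero_add, add_zero,
      eq_comm (a := (0 : F)), mul_eq_zero, hz, or_false] at g2
    rw [g1, g2, zero_smul, zero_smul, add_zero, add_zero] at g
    have hll : l' = l := smul_left_injective F (fun h => hu0 (hj0 u h)) g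
    refine ⟨?_, hll, ?_⟩
    · rw [f2, g2, zero_smul, add_zero]
    · rw [hll] at g1
      exact mul_right_cancel₀ hl0 (sub_eq_zero.1 g1)
  have hll : l' = l := (hline hp.e₁ hp.hee hp.hfe he1).2.1
  rw [hll] at hl'
  have hτ0 : ∀ a : F₀, τ (emb a) = emb a := by
    intro a
    have := hline (hp.e₁ + a • hp.f₁) (by simp [polar_add_right, polar_smul_r', hp.hee, hp.hef])
      (by simp [polar_add_right, polar_smul_r', hp.hfe, hp.hff]) (fun h0 => by
        have h1 := congrArg (polar P₀ hp.f₁) h0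
        simp [polar_add_right, polar_smul_r', polar_comm _ hp.f₁ hp.e₁, hp.h11, polar_self', hp.hf₁] at h1)
    have e1 : P₀ (hp.e₁ + a • hp.f₁) = a := by
      rw [quad_add', quad_smul', polar_smul_r', hp.he₁, hp.hf₁, hp.h11]; ring
    rw [e1] at this
    exact this.2.2
  have hTj : ∀ w, T (j w) = l • j w := by
    intro w
    set u := w - polar P₀ hp.f₀ w • hp.e₀ - polar P₀ hp.e₀ w • hp.f₀ with hu
    have hu1 : polar P₀ hp.e₀ u = 0 := by
      simp [hu, polar_sub_right, polar_smul_r', hp.h00, polar_self', hp.he₀]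
    have hu2 : polar P₀ hp.f₀ u = 0 := by
      simp [hu, polar_sub_right, polar_smul_r', hf00, polar_self', hp.hf₀]
    have hu3 : T (j u) = l • j u := by
      by_cases h : u = 0
      · rw [h, show j (0 : κ → F₀) = 0 from by simp [j, Function.comp_def]; rfl, smul_zero]
        have := hTsmul 0 0
        rwa [zero_smul, map_zero, zero_smul] at this
      · exact (hline u hu1 hu2 h).1
    have hw : w = u + polar P₀ hp.f₀ w • hp.e₀ + polar P₀ hp.e₀ w • hp.f₀ := by rw [hu]; abel
    conv_lhs => rw [hw]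
    conv_rhs => rw [hw]
    simp only [hjadd, hjsmul, hTadd, hTsmul, hτ0, hu3, hl, hl']
    module
  obtain ⟨π, hπ, -⟩ := exists_field_hom Q hQf
  have hτn : τ ^ orderOf n = 1 := by rw [← hπ g τ n ⟨hn, hn'⟩, ← map_pow, pow_orderOf_eq_one, map_one]
  haveI : Finite (F ≃+* F) := Finite.of_injective (fun g : F ≃+* F => (g : F → F)) DFunLike.coe_injective
  have hτ1 : τ = 1 := eq_one_of_zpowers (zpowers_of_fix σ τ fun c hc => by
    obtain ⟨a, rfl⟩ := (hι c).1 hc
    exact hτ0 a) hτn (hσp ▸ hcop)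
  subst hτ1
  have hg : (g : Matrix ι ι F) = l • 1 := by
    refine Matrix.ext_iff_mulVec.2 fun y => ?_
    have h0 : Matrix.toLin' (g : Matrix ι ι F) = l • LinearMap.id := bas.ext fun i => by
      rw [hbas]
      exact hTj _
    rw [Matrix.smul_mulVec, Matrix.one_mulVec]
    simpa using LinearMap.congr_fun h0 y
  have h1 := semi_scl Q hQf (Units.mk0 l hl0) (one_induced (Qf := Qf))
  have e : g = sclM (Units.mk0 l hl0) * 1 := by
    rw [mul_one]; exact Units.ext (by rw [hg, sclM_coe]; rfl)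
  exact induced_unique ⟨hn, hn'⟩ (e ▸ h1)

include hQf hP₀f D in
/-- Local balance at an automorphism with a descent datum. -/
theorem balance_desc (hι : ∀ x, σ x = x ↔ x ∈ Set.range emb) {p : ℕ} [Fact p.Prime] (hpodd : Odd p)
    (hσp : orderOf σ = p) (hsimp : IsSimpleGroup (Cfsg.POmega F₀ P₀f))
    {x : MulAut (Cfsg.POmega F Qf)} (hx : IsSemiInduced Qf A σ x) :
    fixPts x ≠ ⊥ ∧ (p ∣ Nat.card (fixPts x) → ∀ 𝒢 : Subgroup (MulAut (Cfsg.POmega F Qf)),
      (∀ k, MulAut.conj k ∈ 𝒢) → Cfsg.pPrimeCore p ↥(𝒢 ⊓ Subgroup.centralizer {x}) = ⊥) := by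
  classical
  haveI := hsimp
  have hinj : Function.Injective (MulAut.conj : Cfsg.POmega F Qf →* MulAut (Cfsg.POmega F Qf)) :=
    conj_injective Q hQf
  have hinj₀ : Function.Injective (MulAut.conj : Cfsg.POmega F₀ P₀f →* MulAut (Cfsg.POmega F₀ P₀f)) :=
    conj_injective P₀ hP₀f
  have hfx : ∀ a, σ (emb a) = emb a := fun a => (hι _).2 ⟨a, rfl⟩
  -- conjugation by the class of an element is induced by it
  have key : ∀ s : ↥(Cfsg.Omega F₀ P₀f), MulAut.conj (QuotientGroup.mk s : Cfsg.POmega F₀ P₀f) =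
      Φ P₀f (Subgroup.inclusion (isometry_le_GS P₀f) s.1) := by
    intro s
    refine MulEquiv.ext fun y => ?_
    induction y using QuotientGroup.induction_on with
    | _ t =>
      rw [MulAut.conj_apply, Φ_mk, ← QuotientGroup.mk_mul, ← QuotientGroup.mk_inv, ← QuotientGroup.mk_mul]
      congr 1
  let Ψ₀ : ↥(Cfsg.Omega F₀ P₀f) →* MulAut (Cfsg.POmega F Qf) :=
    (Φ Qf).comp ((D.bc hQf hP₀f).comp ((Subgroup.inclusion (isometry_le_GS P₀f)).comp (Subgroup.subtype _)))
  have hΨ₀ : ∀ s, Ψ₀ s = 1 ↔ (QuotientGroup.mk s : Cfsg.POmega F₀ P₀f) = 1 := fun s => by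
    show Φ Qf (D.bc hQf hP₀f (Subgroup.inclusion (isometry_le_GS P₀f) s.1)) = 1 ↔ _
    rw [D.bc_phi_one, ← key, map_eq_one_iff _ hinj₀]
  let Ψ : Cfsg.POmega F₀ P₀f →* MulAut (Cfsg.POmega F Qf) :=
    QuotientGroup.lift _ Ψ₀ fun s hs => (hΨ₀ s).2 ((QuotientGroup.eq_one_iff s).2 hs)
  have hΨ : Function.Injective Ψ := (injective_iff_map_eq_one Ψ).2 fun y hy => by
    induction y using QuotientGroup.induction_on with
    | _ s => exact (hΨ₀ s).1 hy
  -- its values are inner and centralise `x`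
  have hval : ∀ y, Ψ y ∈ (fixPts x).map MulAut.conj := by
    intro y
    induction y using QuotientGroup.induction_on with
    | _ s =>
      set w := Subgroup.inclusion (isometry_le_GS P₀f) s.1
      obtain ⟨h, hh, hw⟩ := (mem_omegaSub_iff P₀f P₀ hP₀f w).1 ⟨s.1, s.2, rfl⟩
      have hinn : Φ Qf (D.bc hQf hP₀f w) ∈ Cfsg.Inn (Cfsg.POmega F Qf) := by
        let J : orthGroup P₀ →* GS Qf := (D.bc hQf hP₀f).comp (ofOrth P₀f P₀ hP₀f)
        have hJ : ∀ k, ∃ h' : orthGroup Q, J k = ofOrth Qf Q hQf h' := fun k =>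
          ⟨⟨lin Qf (J k), fun v => by
            have := D.bc_simil hQf hP₀f (ofOrth P₀f P₀ hP₀f k) (μ := 1) (fun v => by
              rw [lin_ofOrth, one_mul]; exact apply_quad k v) v
            rw [map_one, one_mul] at this
            exact this⟩, lin_injective Qf (by rw [lin_ofOrth])⟩
        choose J' hJ' using hJ
        have hofinj : Function.Injective (ofOrth Qf Q hQf) := fun a b e => Subtype.ext (by
          rw [← lin_ofOrth Qf Q hQf, e, lin_ofOrth])
        let J'' : orthGroup P₀ →* orthGroup Q := MonoidHom.mk' J' fun a b => hofinj (by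
          rw [map_mul, ← hJ', ← hJ', ← hJ', map_mul])
        refine phi_mem_inn ((mem_omegaSub_iff Qf Q hQf _).2 ⟨J' h, ?_, ?_⟩)
        · have hle : (commutator (orthGroup P₀)).map J'' ≤ commutator (orthGroup Q) := by
            rw [commutator_def, commutator_def, Subgroup.map_commutator]
            exact Subgroup.commutator_mono le_top le_top
          exact hle ⟨h, hh, rfl⟩
        · rw [hw]; exact hJ' h
      obtain ⟨k, hk⟩ := hinn
      refine ⟨k, (conj_mem_centralizer hinj x k).1 ?_, hk⟩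
      rw [hk, Subgroup.mem_centralizer_singleton_iff]
      exact D.bc_commute hQf hP₀f hfx hx w
  have hcen : ∀ y, Ψ y ∈ Subgroup.centralizer {x} := fun y => by
    obtain ⟨k, hk, e⟩ := hval y
    exact e ▸ (conj_mem_centralizer hinj x k).2 hk
  haveI : Nontrivial (Cfsg.POmega F₀ P₀f) := hsimp.toNontrivial
  have hne : fixPts x ≠ ⊥ := fun h => by
    obtain ⟨y, hy⟩ := exists_ne (1 : Cfsg.POmega F₀ P₀f)
    have := hval y
    rw [h, Subgroup.map_bot, Subgroup.mem_bot] at this
    exact hy (hΨ (this.trans (map_one Ψ).symm))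
  refine ⟨hne, fun hdiv 𝒢 hinn => ?_⟩
  have hfix1 : ∀ n : MulAut (Cfsg.POmega F Qf), (orderOf n).Coprime p → (∀ y, n * Ψ y = Ψ y * n) → n = 1 := by
    intro n hn h
    refine eq_one_of_fix_desc hQf hP₀f D hι hσp n hn fun w hw => ?_
    obtain ⟨s, hs, rfl⟩ := hw
    exact h (QuotientGroup.mk ⟨s, hs⟩)
  -- centralising fixed points act on the group over the fixed field
  have hact : ∀ n ∈ (fixPts x).map MulAut.conj, ∀ y, n * Ψ y * n⁻¹ ∈ Ψ.range := by
    intro n hn y
    have hnI : n ∈ Cfsg.Inn (Cfsg.POmega F Qf) := by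
      obtain ⟨l, -, rfl⟩ := hn
      exact ⟨l, rfl⟩
    rw [inn_eq] at hnI
    obtain ⟨g, -, rfl⟩ := hnI
    have hgx : Φ Qf g * x = x * Φ Qf g := by
      obtain ⟨l, hl, e⟩ := hn
      rw [← e]
      exact Subgroup.mem_centralizer_singleton_iff.1 ((conj_mem_centralizer hinj x l).2 hl)
    obtain ⟨B, hB⟩ := D.exists_bc hQf hP₀f hι hx g hgx
    induction y using QuotientGroup.induction_on with
    | _ s =>
      refine ⟨QuotientGroup.mk (conjΩ P₀f B s), ?_⟩
      show Φ Qf (D.bc hQf hP₀f (Subgroup.inclusion (isometry_le_GS P₀f) (conjΩ P₀f B s).1)) =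
        Φ Qf g * Φ Qf (D.bc hQf hP₀f (Subgroup.inclusion (isometry_le_GS P₀f) s.1)) * (Φ Qf g)⁻¹
      rw [← hB, ← map_inv, ← map_mul, ← map_mul, ← map_inv, ← map_mul, ← map_mul]
      congr 2
  set L := fixPts x
  set C := Cfsg.pPrimeCore p L
  have hC : (Nat.card C).Coprime p := CfsgLib.Solvable.Cores.coprime_card_pPrimeCore p
  set C' := (C.map L.subtype).map (MulAut.conj : _ →* MulAut (Cfsg.POmega F Qf)) with hC'
  have hCconj : ∀ n ∈ Subgroup.centralizer {x}, ∀ d ∈ C', n * d * n⁻¹ ∈ C' := by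
    rintro n hn _ ⟨d, hd, rfl⟩
    exact ⟨n d, core_invariant p hn hd, (conj_apply_aut n d).symm⟩
  have hCL : C' ≤ L.map MulAut.conj := Subgroup.map_mono (Subgroup.map_subtype_le C)
  have hCcard : Nat.card C' = Nat.card C := by
    rw [hC', Subgroup.card_map_of_injective hinj, Subgroup.card_map_of_injective L.subtype_injective]
  -- an element of order `p` over the fixed field
  obtain ⟨w, hw⟩ : ∃ w, orderOf (Ψ w) = p := by
    obtain ⟨l, hl⟩ := exists_prime_orderOf_dvd_card' p hdiv
    set n := MulAut.conj (l : Cfsg.POmega F Qf)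
    have hn : orderOf n = p := by rw [orderOf_injective _ hinj, Subgroup.orderOf_coe, hl]
    have hnI : n ∈ Cfsg.Inn (Cfsg.POmega F Qf) := ⟨_, rfl⟩
    rw [inn_eq] at hnI
    obtain ⟨g, -, hg⟩ := hnI
    have hgx : Φ Qf g * x = x * Φ Qf g := by
      rw [hg]; exact Subgroup.mem_centralizer_singleton_iff.1 ((conj_mem_centralizer hinj x _).2 l.2)
    obtain ⟨B, hB⟩ := D.exists_bc hQf hP₀f hι hx g hgx
    obtain ⟨μ, hμ0, hμ⟩ := exists_mult P₀f P₀ hP₀f B
    let k : orthGroup P₀ := ⟨((lin P₀f B).trans (lin P₀f B)).trans (LinearEquiv.smulOfUnit (Units.mk0 μ hμ0)⁻¹),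
      fun v => by
        show P₀ (μ⁻¹ • lin P₀f B (lin P₀f B v)) = _
        rw [quad_smul', hμ, hμ]; field_simp⟩
    have hk : Φ P₀f (B * B) = Φ P₀f (ofOrth P₀f P₀ hP₀f k) := by
      rw [← inv_mul_eq_one, ← map_inv, ← map_mul, phi_eq_one P₀ hP₀f]
      refine ⟨μ⁻¹, Matrix.ext_iff_mulVec.2 fun v => ?_⟩
      rw [← lin_apply, Matrix.smul_mulVec, Matrix.one_mulVec]
      apply (lin P₀f (B * B)).injective
      rw [← LinearEquiv.mul_apply, ← map_mul, mul_inv_cancel_left, lin_ofOrth, map_smul, map_mul]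
      rfl
    have hk2 : ofOrth P₀f P₀ hP₀f (k * k) ∈ omegaSub P₀f :=
      (mem_omegaSub_iff _ _ hP₀f _).2 ⟨_, sq_mem_commutator hP.nd (good (Q := P₀)) k, rfl⟩
    obtain ⟨s, hs, hse⟩ := hk2
    have e4 : n ^ 4 = Ψ (QuotientGroup.mk ⟨s, hs⟩) := by
      show n ^ 4 = Φ Qf (D.bc hQf hP₀f (Subgroup.inclusion (isometry_le_GS P₀f) s))
      rw [hse, ← hg, ← hB, ← map_pow, ← map_pow, ← inv_mul_eq_one, ← map_inv, ← map_mul, ← map_inv, ← map_mul,
        D.bc_phi_one, map_mul, map_inv, inv_mul_eq_one, map_mul (ofOrth P₀f P₀ hP₀f), map_mul (Φ P₀f) (ofOrth _ _ _ k),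
        ← hk, ← map_mul, show B ^ 4 = B * B * (B * B) by rw [← pow_two, ← pow_two, ← pow_mul]]
    refine ⟨QuotientGroup.mk ⟨s, hs⟩, ?_⟩
    rw [← e4, Nat.Coprime.orderOf_pow, hn]
    rw [hn]
    exact (Nat.Coprime.pow_right 2 hpodd.coprime_two_right : p.Coprime (2 ^ 2))
  haveI hM : (C'.comap Ψ).Normal := ⟨fun d hd y => by
    rw [Subgroup.mem_comap, map_mul, map_mul, map_inv]
    exact hCconj _ (hcen y) _ hd⟩
  have hbot : C'.comap Ψ = ⊥ := by
    rcases hM.eq_bot_or_eq_top with h | h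
    · exact h
    exfalso
    have h1 : orderOf (Ψ w) ∣ Nat.card C' := Subgroup.orderOf_dvd_natCard C' (h.ge (Subgroup.mem_top w))
    rw [hw, hCcard] at h1
    exact (Fact.out : p.Prime).one_lt.ne' (Nat.eq_one_of_dvd_coprimes hC h1 dvd_rfl)
  have hD : C = ⊥ := by
    rw [eq_bot_iff]
    intro d hd
    rw [Subgroup.mem_bot]
    have hd' : MulAut.conj (d : Cfsg.POmega F Qf) ∈ C' := ⟨_, ⟨d, hd, rfl⟩, rfl⟩
    refine Subtype.ext (hinj ?_)
    rw [show ((1 : L) : Cfsg.POmega F Qf) = 1 from rfl, map_one]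
    refine hfix1 _ ?_ fun y => ?_
    · rw [orderOf_injective _ hinj, Subgroup.orderOf_coe]
      exact hC.coprime_dvd_left (Subgroup.orderOf_dvd_natCard C hd)
    · obtain ⟨y', hy'⟩ := hact _ (hCL hd') y
      have hmem : y' * y⁻¹ ∈ C'.comap Ψ := by
        rw [Subgroup.mem_comap, map_mul, map_inv, hy', mul_assoc, mul_assoc, ← mul_assoc (Ψ y)]
        exact mul_mem hd' (hCconj _ (hcen y) _ (inv_mem hd'))
      rw [hbot, Subgroup.mem_bot, mul_inv_eq_one] at hmem
      rw [hmem] at hy'
      exact (eq_mul_inv_iff_mul_eq.1 hy').symm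
  refine core_bot hinj x 𝒢 hinn hD fun n _ hn hfix => hfix1 n hn fun y => ?_
  obtain ⟨k, hk, e⟩ := hval y
  rw [← e, ← mul_inv_eq_iff_eq_mul, conj_apply_aut, hfix k hk]

end CfsgLib.KnownC.AutPOmega.Balance
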