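import Mathlib

/-!
# Groups normalised by reflections of a symmetric form

Over a finite field of odd order, a group of isometries in which every element has an odd power that is scalar
and which is normalised by the reflections in the vectors of a non-degenerate subspace of dimension at least three
fixes the anisotropic lines of that subspace.
-/

set_option autoImplicit false
set_option linter.unusedSectionVars false

open Module

namespace CfsgLib.KnownC.ReflRigid

variable {K : Type*} [Field K] {V : Type*} [AddCommGroup V] [Module K V]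

/-- The underlying map of a reflection. -/
def rfFun (β : V →ₗ[K] V →ₗ[K] K) (z x : V) : V := x - (2 * (β z z)⁻¹ * β z x) • z

theorem rfFun_invol (β : V →ₗ[K] V →ₗ[K] K) (z : V) : Function.Involutive (rfFun β z) := fun x => by
  by_cases h : β z z = 0
  · simp [rfFun, h]
  · simp only [rfFun, map_sub, map_smul, smul_eq_mul]
    match_scalars <;> field_simp <;> ring

/-- The reflection in a vector (the identity when it is isotropic). -/
def rf (β : V →ₗ[K] V →ₗ[K] K) (z : V) : Equiv.Perm V := (rfFun_invol β z).toPerm _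

variable (β : V →ₗ[K] V →ₗ[K] K)

theorem rf_apply (z x : V) : rf β z x = x - (2 * (β z z)⁻¹ * β z x) • z := rfl

theorem rf_inv (z : V) : (rf β z)⁻¹ = rf β z :=
  inv_eq_of_mul_eq_one_right (Equiv.ext fun x => rfFun_invol β z x)

theorem rf_add (z x y : V) : rf β z (x + y) = rf β z x + rf β z y := by
  simp only [rf_apply, map_add]; module

theorem rf_smul (z : V) (c : K) (x : V) : rf β z (c • x) = c • rf β z x := by
  simp only [rf_apply, map_smul, smul_eq_mul]; module

theorem rf_self {z : V} (h : β z z ≠ 0) : rf β z z = -z := by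
  rw [rf_apply]
  match_scalars
  field_simp
  ring

theorem rf_perp {z x : V} (h : β z x = 0) : rf β z x = x := by simp [rf_apply, h]

theorem rf_isom (hs : ∀ x y, β x y = β y x) (z x y : V) : β (rf β z x) (rf β z y) = β x y := by
  by_cases h : β z z = 0
  · simp [rf_apply, h]
  · simp only [rf_apply, map_sub, map_smul, LinearMap.sub_apply, LinearMap.smul_apply, smul_eq_mul, hs x z]
    field_simp
    ring

theorem rf_conj {g : Equiv.Perm V} (hadd : ∀ x y, g (x + y) = g x + g y) (hsmul : ∀ (c : K) x, g (c • x) = c • g x)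
    (hg : ∀ x y, β (g x) (g y) = β x y) (u : V) : g * rf β u * g⁻¹ = rf β (g u) := by
  refine Equiv.ext fun x => ?_
  obtain ⟨y, rfl⟩ := g.surjective x
  have hsub : ∀ x y, g (x - y) = g x - g y := fun x y => by rw [eq_sub_iff_add_eq, ← hadd, sub_add_cancel]
  simp [Equiv.Perm.mul_apply, rf_apply, hsub, hsmul, hg]

theorem rf_conj_rf (hs : ∀ x y, β x y = β y x) (z u : V) : rf β z * rf β u * rf β z = rf β (rf β z u) := by
  conv_lhs => arg 2; rw [← rf_inv]
  exact rf_conj β (rf_add β z) (rf_smul β z) (rf_isom β hs z) u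

theorem rf_swap (hs : ∀ x y, β x y = β y x) (h2 : (2 : K) ≠ 0) {u v : V} (huv : β v v = β u u)
    (hne : β (u - v) (u - v) ≠ 0) : rf β (u - v) u = v := by
  have e : β (u - v) (u - v) = 2 * (β u u - β u v) := by simp [hs v u, huv]; ring
  have h' : β u u - β u v ≠ 0 := fun h => hne (by rw [e, h, mul_zero])
  rw [rf_apply, e, show β (u - v) u = β u u - β u v by simp [hs v u]]
  match_scalars <;> field_simp <;> ring

/-- Non-degeneracy on a subspace. -/
def NdOn (S : Submodule K V) : Prop := ∀ x ∈ S, x ≠ 0 → ∃ y ∈ S, β x y ≠ 0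

/-- The orthogonal of a vector inside a subspace. -/
def perpIn (S : Submodule K V) (u : V) : Submodule K V := S ⊓ LinearMap.ker (β u)

theorem mem_perpIn {S : Submodule K V} {u x : V} : x ∈ perpIn β S u ↔ x ∈ S ∧ β u x = 0 := Iff.rfl

theorem NdOn.perp {S : Submodule K V} (h : NdOn β S) (hs : ∀ x y, β x y = β y x) {u : V} (hu : u ∈ S)
    (ha : β u u ≠ 0) : NdOn β (perpIn β S u) := by
  intro x hx hx0
  obtain ⟨y, hy, hxy⟩ := h x hx.1 hx0
  refine ⟨y - ((β u u)⁻¹ * β u y) • u, ⟨S.sub_mem hy (S.smul_mem _ hu), ?_⟩, ?_⟩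
  · simp [LinearMap.mem_ker, map_sub, map_smul]
    field_simp
    ring
  · have hxu : β x u = 0 := (hs x u).trans hx.2
    simpa [map_sub, map_smul, hxu] using hxy

theorem perp_finrank [FiniteDimensional K V] {S : Submodule K V} {u : V} (hu : u ∈ S) (ha : β u u ≠ 0) :
    finrank K S ≤ finrank K (perpIn β S u) + 1 := by
  have hle : S ≤ perpIn β S u ⊔ (K ∙ u) := fun x hx =>
    Submodule.mem_sup.2 ⟨x - ((β u u)⁻¹ * β u x) • u, ⟨S.sub_mem hx (S.smul_mem _ hu), by
      simp [LinearMap.mem_ker, map_sub, map_smul]; field_simp; ring⟩, _, Submodule.smul_mem _ _ (Submodule.mem_span_singleton_self u),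
      sub_add_cancel _ _⟩
  have h1 := Submodule.finrank_mono hle
  have h2 := Submodule.finrank_add_le_finrank_add_finrank (perpIn β S u) (K ∙ u)
  have h3 : finrank K (K ∙ u) ≤ 1 := by
    rw [finrank_span_singleton (fun h => ha (by rw [h]; simp))]
  omega

theorem NdOn.exists_aniso {S : Submodule K V} (h : NdOn β S) (hs : ∀ x y, β x y = β y x) (h2 : (2 : K) ≠ 0)
    (hS : 1 ≤ finrank K S) : ∃ x ∈ S, β x x ≠ 0 := by
  have hne : S ≠ ⊥ := by rintro rfl; simp at hS
  obtain ⟨x, hx, hx0⟩ := S.exists_mem_ne_zero_of_ne_bot hne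
  obtain ⟨y, hy, hxy⟩ := h x hx hx0
  by_contra hn
  push Not at hn
  have := hn (x + y) (S.add_mem hx hy)
  simp [hn x hx, hn y hy, hs y x] at this
  exact mul_ne_zero h2 hxy (by linear_combination this)

/-- A linear map killing the anisotropic vectors of a subspace kills it. -/
theorem NdOn.eq_zero {S : Submodule K V} (h : NdOn β S) (hs : ∀ x y, β x y = β y x) (h2 : (2 : K) ≠ 0)
    (f : V →ₗ[K] V) (hf : ∀ x ∈ S, β x x ≠ 0 → f x = 0) : ∀ x ∈ S, f x = 0 := by
  intro x hx
  by_cases hxx : β x x ≠ 0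
  · exact hf x hx hxx
  push Not at hxx
  by_cases hx0 : x = 0
  · rw [hx0, map_zero]
  obtain ⟨y, hy, hxy⟩ := h x hx hx0
  by_cases hyy : β y y = 0
  · have e1 := hf (x + y) (S.add_mem hx hy) (by
      simp [hxx, hyy, hs y x]; intro h0; exact mul_ne_zero h2 hxy (by linear_combination h0))
    have e2 := hf (x - y) (S.sub_mem hx hy) (by
      simp [hxx, hyy, hs y x]; intro h0; exact mul_ne_zero h2 hxy (by linear_combination -h0))
    rw [map_add] at e1
    rw [map_sub] at e2
    have : (2 : K) • f x = 0 := by linear_combination (norm := module) e1 + e2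
    exact (smul_eq_zero.1 this).resolve_left h2
  · have hy' := hf y hy hyy
    have : ∀ s : K, β (x + s • y) (x + s • y) ≠ 0 → f x = 0 := fun s hs' => by
      have := hf (x + s • y) (S.add_mem hx (S.smul_mem _ hy)) hs'
      rwa [map_add, map_smul, hy', smul_zero, add_zero] at this
    by_cases h1 : β (x + (1 : K) • y) (x + (1 : K) • y) ≠ 0
    · exact this 1 h1
    push Not at h1
    refine this (-1) fun h3 => ?_
    simp [hxx, hs y x] at h1 h3
    exact mul_ne_zero (mul_ne_zero h2 h2) hxy (by linear_combination h1 - h3)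

variable [Fintype K]

/-- Binary forms take every value. -/
theorem binary_value (h2 : (2 : K) ≠ 0) {a b : K} (ha : a ≠ 0) (hb : b ≠ 0) (c : K) :
    ∃ p q : K, p ^ 2 * a + q ^ 2 * b = c := by
  classical
  have hodd : Fintype.card K % 2 = 1 := by
    refine FiniteField.odd_card_of_char_ne_two fun hc => ?_
    haveI : CharP K 2 := ringChar.of_eq hc
    exact h2 (CharP.cast_eq_zero K 2)
  obtain ⟨p, q, hpq⟩ := FiniteField.exists_root_sum_quadratic
    (f := Polynomial.C a * Polynomial.X ^ 2) (g := Polynomial.C b * Polynomial.X ^ 2 - Polynomial.C c)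
    (by rw [Polynomial.degree_C_mul_X_pow 2 ha]; rfl)
    (by rw [Polynomial.degree_sub_C (by rw [Polynomial.degree_C_mul_X_pow 2 hb]; decide),
      Polynomial.degree_C_mul_X_pow 2 hb]; rfl) hodd
  exact ⟨p, q, by simp at hpq; linear_combination hpq⟩

variable [FiniteDimensional K V] (hs : ∀ x y, β x y = β y x) (h2 : (2 : K) ≠ 0)
include hs h2

theorem NdOn.exists_value {S : Submodule K V} (h : NdOn β S) (hS : 2 ≤ finrank K S) (c : K) :
    ∃ x ∈ S, β x x = c := by
  obtain ⟨e, he, hee⟩ := h.exists_aniso β hs h2 (by omega)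
  obtain ⟨f, hf, hff⟩ := (h.perp β hs he hee).exists_aniso β hs h2 (by have := perp_finrank β he hee; omega)
  obtain ⟨p, q, hpq⟩ := binary_value h2 hee hff c
  refine ⟨p • e + q • f, S.add_mem (S.smul_mem _ he) (S.smul_mem _ hf.1), ?_⟩
  have hef : β e f = 0 := hf.2
  simp [hef, hs f e]
  linear_combination hpq

/-- Two orthogonal vectors with a given non-zero value. -/
theorem NdOn.exists_two {S : Submodule K V} (h : NdOn β S) (hS : 3 ≤ finrank K S) {c : K} (hc : c ≠ 0) :
    ∃ w ∈ S, ∃ z ∈ S, β w w = c ∧ β z z = c ∧ β w z = 0 := by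
  obtain ⟨w, hw, hww⟩ := h.exists_value β hs h2 (by omega) c
  have hwa : β w w ≠ 0 := by rw [hww]; exact hc
  obtain ⟨z, hz, hzz⟩ := (h.perp β hs hw hwa).exists_value β hs h2 (by have := perp_finrank β hw hwa; omega) c
  exact ⟨w, hw, z, hz.1, hww, hzz, hz.2⟩

/-- The hypotheses on the group. -/
structure OddGroup (S : Submodule K V) (R : Subgroup (Equiv.Perm V)) : Prop where
  add : ∀ g ∈ R, ∀ x y, g (x + y) = g x + g y
  smul : ∀ g ∈ R, ∀ (c : K) x, g (c • x) = c • g x
  isom : ∀ g ∈ R, ∀ x y, β (g x) (g y) = β x y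
  maps : ∀ g ∈ R, ∀ x ∈ S, g x ∈ S
  odd : ∀ g ∈ R, ∃ k : ℕ, Odd k ∧ ∃ c : K, ∀ x, (g ^ k) x = c • x
  conj : ∀ g ∈ R, ∀ z ∈ S, β z z ≠ 0 → rf β z * g * rf β z ∈ R

/-- Anisotropic lines are fixed. -/
theorem OddGroup.line {S : Submodule K V} {R : Subgroup (Equiv.Perm V)} (hR : OddGroup β S R) (hS : NdOn β S)
    (h3 : 3 ≤ finrank K S) {g : Equiv.Perm V} (hg : g ∈ R) {u : V} (hu : u ∈ S) (ha : β u u ≠ 0) :
    ∃ c : K, g u = c • u := by
  -- no element is a half turn in a plane
  have no_orth : ∀ x y : V, x ∈ S → y ∈ S → β x x ≠ 0 → β y y ≠ 0 → β x y = 0 → rf β x * rf β y ∉ R := by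
    intro x y hx hy hxx hyy hxy hmem
    set t := rf β x * rf β y with ht
    have hyx : β y x = 0 := (hs y x).trans hxy
    have htx : t x = -x := by rw [ht, Equiv.Perm.mul_apply, rf_perp β hyx, rf_self β hxx]
    have hy' : y ∈ perpIn β S x := ⟨hy, hxy⟩
    obtain ⟨e, he, hee⟩ := ((hS.perp β hs hx hxx).perp β hs hy' hyy).exists_aniso β hs h2 (by
      have := perp_finrank β hx hxx
      have := perp_finrank β hy' hyy
      omega)
    have hte : t e = e := by rw [ht, Equiv.Perm.mul_apply, rf_perp β he.2, rf_perp β he.1.2]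
    obtain ⟨k, hk, c, hc⟩ := hR.odd t hmem
    have hj : ∀ j : ℕ, (t ^ j) x = ((-1 : K) ^ j) • x ∧ (t ^ j) e = e := fun j => by
      induction j with
      | zero => simp
      | succ j ih =>
        constructor
        · rw [pow_succ', Equiv.Perm.mul_apply, ih.1, hR.smul t hmem, htx, pow_succ']; module
        · rw [pow_succ', Equiv.Perm.mul_apply, ih.2, hte]
    have e1 : c • x = (-1 : K) • x := by rw [← hc, (hj k).1, hk.neg_one_pow]
    have e2 : c • e = (1 : K) • e := by rw [← hc, (hj k).2, one_smul]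
    have hx0 : x ≠ 0 := fun h => hxx (by rw [h]; simp)
    have he0 : e ≠ 0 := fun h => hee (by rw [h]; simp)
    have := (smul_left_injective K hx0 e1).symm.trans (smul_left_injective K he0 e2)
    exact h2 (by linear_combination -this)
  -- the product of the reflections in a vector and its image
  have pair : ∀ f ∈ R, ∀ x ∈ S, β x x ≠ 0 → rf β x * rf β (f x) ∈ R := fun f hf x hx hxx => by
    rw [← rf_conj β (hR.add f hf) (hR.smul f hf) (hR.isom f hf) x, ← mul_assoc, ← mul_assoc]
    exact mul_mem (hR.conj f hf x hx hxx) (inv_mem hf)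
  -- an impossible configuration
  have key : ∀ f ∈ R, ∀ x ∈ S, β x x ≠ 0 → ∀ y ∈ S, β x y = 0 → β y y = β x x → β (f x) y = β (f x) x → False := by
    intro f hf x hx hxx y hy hxy hyy hfy
    set v := f x
    have hzz : β (x - y) (x - y) ≠ 0 := by
      rw [show β (x - y) (x - y) = 2 * β x x by simp [hs y x, hxy, hyy]; ring]
      exact mul_ne_zero h2 hxx
    have hzv : rf β (x - y) v = v := rf_perp β (by rw [hs, map_sub, hfy, sub_self])
    have h1 := pair f hf x hx hxx
    have h2' : rf β y * rf β v ∈ R := by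
      have h3 := hR.conj _ h1 (x - y) (S.sub_mem hx hy) hzz
      rwa [show rf β (x - y) * (rf β x * rf β v) * rf β (x - y) =
        rf β (x - y) * rf β x * rf β (x - y) * (rf β (x - y) * rf β v * rf β (x - y)) by
          have hzz' : rf β (x - y) * rf β (x - y) = 1 := by
            conv_lhs => arg 2; rw [← rf_inv]
            exact mul_inv_cancel _
          simp only [mul_assoc]
          rw [← mul_assoc (rf β (x - y)) (rf β (x - y)), hzz', one_mul], rf_conj_rf β hs, rf_conj_rf β hs, hzv, rf_swap β hs h2 hyy hzz] at h3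
    refine no_orth x y hx hy hxx (by rw [hyy]; exact hxx) hxy ?_
    have e : rf β x * rf β y = rf β x * rf β v * (rf β y * rf β v)⁻¹ := by
      rw [mul_inv_rev, rf_inv, rf_inv]
      conv_rhs => rw [mul_assoc, ← mul_assoc (rf β v) (rf β v), show rf β v * rf β v = 1 by
        conv_lhs => arg 2; rw [← rf_inv]
        exact mul_inv_cancel _, one_mul]
    rw [e]
    exact mul_mem h1 (inv_mem h2')
  set v := g u with hv
  have hvS : v ∈ S := hR.maps g hg u hu
  have hvv : β v v = β u u := hR.isom g hg u u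
  set a := β u u with hadef
  set c := β u v / a with hcdef
  have huv : β u v = c * a := by rw [hcdef, div_mul_cancel₀ _ ha]
  have hvu : β v u = c * a := (hs v u).trans huv
  refine ⟨c, ?_⟩
  by_cases hc0 : c = 0
  · exact absurd (pair g hg u hu ha) (no_orth u v hu hvS ha (by rw [hvv]; exact ha) (by rw [huv, hc0, zero_mul]))
  set w := v - c • u with hw
  have hwS : w ∈ S := S.sub_mem hvS (S.smul_mem _ hu)
  have huw : β u w = 0 := by rw [hw, map_sub, map_smul, smul_eq_mul, huv, ← hadef, sub_self]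
  have hwu : β w u = 0 := (hs w u).trans huw
  have hve : v = c • u + w := by rw [hw]; abel
  have hww : β w w = a * (1 - c ^ 2) := by
    simp [hw, huv, hvu, hvv, ← hadef]; ring
  by_contra hne
  have hw0 : w ≠ 0 := fun h => hne (sub_eq_zero.1 h)
  by_cases hc1 : c ^ 2 = 1
  · -- a degenerate plane
    obtain ⟨f, hf, hwf⟩ := (hS.perp β hs hu ha) w ((mem_perpIn β).2 ⟨hwS, huw⟩) hw0
    set s := c * a * (β w f)⁻¹
    have hs0 : s ≠ 0 := mul_ne_zero (mul_ne_zero hc0 ha) (inv_ne_zero hwf)
    have hww0 : β w w = 0 := by rw [hww, hc1, sub_self, mul_zero]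
    set t := (a - s ^ 2 * β f f) / (2 * s * β w f)
    have hsf : s * β w f = c * a := by simp only [s]; field_simp
    refine key g hg u hu ha (s • f + t • w) (S.add_mem (S.smul_mem _ hf.1) (S.smul_mem _ hwS)) ?_ ?_ ?_
    · simp [show β u f = 0 from hf.2, huw]
    · simp [hww0, hs f w, ← hadef, t]
      field_simp
      ring
    · rw [← hv, hvu, hve]
      simp [show β u f = 0 from hf.2, huw, hww0, hsf]
  -- a non-degenerate plane
  have hc1' : 1 - c ^ 2 ≠ 0 := sub_ne_zero.2 (Ne.symm hc1)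
  have hwa : β w w ≠ 0 := by rw [hww]; exact mul_ne_zero ha hc1'
  have hvw : β v w = a * (1 - c ^ 2) := by rw [hve]; simp [huw, hww]
  set ρ := rf β u * rf β v with hρ
  have hρR : ρ ∈ R := pair g hg u hu ha
  set C := 2 * c ^ 2 - 1 with hC
  have hρu : ρ u = C • u + (-2 * c) • w := by
    simp only [hρ, Equiv.Perm.mul_apply, rf_apply, map_sub, map_smul, smul_eq_mul, hvv, huv, hvu, ← hadef]
    rw [hve, hC]
    match_scalars <;> field_simp <;> ring
  have hρw : ρ w = (2 * c * (1 - c ^ 2)) • u + C • w := by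
    simp only [hρ, Equiv.Perm.mul_apply, rf_apply, map_sub, map_smul, smul_eq_mul, hvv, huv, hvw, huw, ← hadef]
    rw [hve, hC]
    match_scalars <;> field_simp <;> ring
  have hC0 : C ≠ 0 := fun h => no_orth u (ρ u) hu (hR.maps _ hρR u hu) ha
    (by rw [hR.isom _ hρR, ← hadef]; exact ha) (by rw [hρu]; simp [huw, h]) (pair ρ hρR u hu ha)
  have hC1 : 1 - C ^ 2 ≠ 0 := by
    rw [show 1 - C ^ 2 = 2 * 2 * c ^ 2 * (1 - c ^ 2) by rw [hC]; ring]
    exact mul_ne_zero (mul_ne_zero (mul_ne_zero h2 h2) (pow_ne_zero _ hc0)) hc1'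
  obtain ⟨e, he, hee⟩ := ((hS.perp β hs hu ha).perp β hs ((mem_perpIn β).2 ⟨hwS, huw⟩ : w ∈ perpIn β S u) hwa).exists_aniso β hs h2 (by
    have := perp_finrank β hu ha
    have := perp_finrank β ((mem_perpIn β).2 ⟨hwS, huw⟩ : w ∈ perpIn β S u) hwa
    omega)
  have hue : β u e = 0 := he.1.2
  have hwe : β w e = 0 := he.2
  obtain ⟨p, q, hQ, τ, hτ⟩ : ∃ p q : K, p ^ 2 * a + q ^ 2 * β w w ≠ 0 ∧
      ∃ τ : K, τ ^ 2 * β e e * (1 - C ^ 2) = (p ^ 2 * a + q ^ 2 * β w w) * (1 - 2 * C ^ 2) := by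
    by_cases h2C : 1 - 2 * C ^ 2 = 0
    · exact ⟨1, 0, by simpa using ha, 0, by rw [h2C]; ring⟩
    obtain ⟨p, q, hpq⟩ := binary_value h2 ha hwa (β e e * (1 - 2 * C ^ 2) * (1 - C ^ 2))
    exact ⟨p, q, by rw [hpq]; exact mul_ne_zero (mul_ne_zero hee h2C) hC1, 1 - 2 * C ^ 2, by rw [hpq]; ring⟩
  set u₁ := p • u + q • w with hu₁
  set v₁ := ρ u₁ with hv₁
  have hu₁S : u₁ ∈ S := S.add_mem (S.smul_mem _ hu) (S.smul_mem _ hwS)
  have hv₁' : v₁ = (p * C + q * (2 * c * (1 - c ^ 2))) • u + (p * (-2 * c) + q * C) • w := by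
    rw [hv₁, hu₁, hR.add _ hρR, hR.smul _ hρR, hR.smul _ hρR, hρu, hρw]; module
  have ha₁ : β u₁ u₁ = p ^ 2 * a + q ^ 2 * β w w := by simp [hu₁, huw, hwu, ← hadef]; ring
  set a₁ := p ^ 2 * a + q ^ 2 * β w w with ha₁def
  have huv₁ : β u₁ v₁ = C * a₁ := by simp [hu₁, hv₁', huw, hwu, ← hadef, hww, ha₁def]; ring
  have hvu₁ : β v₁ u₁ = C * a₁ := (hs _ _).trans huv₁
  have hvv₁ : β v₁ v₁ = a₁ := by rw [hv₁, hR.isom _ hρR, ha₁]
  have hu₁e : β u₁ e = 0 := by simp [hu₁, hue, hwe]
  have hv₁e : β v₁ e = 0 := by simp [hv₁', hue, hwe]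
  set α := C / (1 - C ^ 2)
  refine key ρ hρR u₁ hu₁S (by rw [ha₁]; exact hQ) (α • (v₁ - C • u₁) + τ • e)
    (S.add_mem (S.smul_mem _ (S.sub_mem (hR.maps _ hρR _ hu₁S) (S.smul_mem _ hu₁S))) (S.smul_mem _ he.1.1)) ?_ ?_ ?_
  · simp [hu₁e, huv₁, ha₁]
  · simp [hs e v₁, hs e u₁, hu₁e, hv₁e, huv₁, hvu₁, hvv₁, ha₁, α]
    field_simp
    linear_combination hτ
  · rw [← hv₁, hvu₁]
    simp [hv₁e, hvu₁, hvv₁, α]
    field_simp

/-- A semilinear map commuting with two half turns fixes their common line. -/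
theorem line_of_comm (T : V → V) {u w z : V} (ha : β u u ≠ 0) (hw : β w w = β u u) (hz : β z z = β u u)
    (huw : β u w = 0) (huz : β u z = 0) (hwz : β w z = 0) (hneg : ∀ y, T (-y) = -T y)
    (hTw : ∀ y, T ((rf β u * rf β w) y) = (rf β u * rf β w) (T y))
    (hTz : ∀ y, T ((rf β u * rf β z) y) = (rf β u * rf β z) (T y)) : ∃ l : K, T u = l • u := by
  set y := T u
  have hform : ∀ x : V, β u x = 0 → β x x = β u u → (∀ y, T ((rf β u * rf β x) y) = (rf β u * rf β x) (T y)) →
      y = ((β u u)⁻¹ * β u y) • u + ((β u u)⁻¹ * β x y) • x := by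
    intro x hux hxx hx
    have e := hx u
    rw [Equiv.Perm.mul_apply, rf_perp β ((hs x u).trans hux), rf_self β ha, hneg] at e
    have e' : -y = y - (2 * (β u u)⁻¹ * β u y) • u - (2 * (β u u)⁻¹ * β x y) • x := by
      rw [e]
      simp only [Equiv.Perm.mul_apply, rf_apply, map_sub, map_smul, smul_eq_mul, hxx, hux, mul_zero, sub_zero,
        (show β u x = 0 from hux)]
      abel
    have e2 : (2 : K) • y = (2 : K) • (((β u u)⁻¹ * β u y) • u + ((β u u)⁻¹ * β x y) • x) := by
      linear_combination (norm := module) -e'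
    exact (smul_right_injective V h2) e2
  have h1 := hform w huw hw hTw
  have h3 := hform z huz hz hTz
  have hwy : β w y = 0 := by
    have := congrArg (β w) h3
    simpa [hs w u, huw, hwz] using this
  exact ⟨(β u u)⁻¹ * β u y, by conv_lhs => rw [h1, hwy, mul_zero, zero_smul, add_zero]⟩

/-- If the anisotropic lines of a subspace are fixed, the map is linear. -/
theorem sigma_eq_id {S : Submodule K V} (hS : NdOn β S) (h3 : 3 ≤ finrank K S) (T : V → V) (τ : K →+* K)
    (hadd : ∀ x y, T (x + y) = T x + T y) (hsmul : ∀ (c : K) x, T (c • x) = τ c • T x)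
    (hinj : ∀ x, T x = 0 → x = 0) (hline : ∀ u ∈ S, β u u ≠ 0 → ∃ l : K, T u = l • u) : ∀ c, τ c = c := by
  obtain ⟨w, hw, z, hz, hww, hzz, hwz⟩ := hS.exists_two β hs h2 h3 one_ne_zero
  obtain ⟨lw, hlw⟩ := hline w hw (by rw [hww]; exact one_ne_zero)
  obtain ⟨lz, hlz⟩ := hline z hz (by rw [hzz]; exact one_ne_zero)
  have hzw : β z w = 0 := (hs z w).trans hwz
  have key : ∀ c : K, 1 + c ^ 2 ≠ 0 → τ c * lz = c * lw := by
    intro c hc
    obtain ⟨l, hl⟩ := hline (w + c • z) (S.add_mem hw (S.smul_mem _ hz)) (by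
      rw [show β (w + c • z) (w + c • z) = 1 + c ^ 2 by simp [hww, hzz, hwz, hzw]; ring]; exact hc)
    rw [hadd, hsmul, hlw, hlz] at hl
    have e1 := congrArg (β w) hl
    have e2 := congrArg (β z) hl
    simp [hww, hwz, hzw, hzz] at e1 e2
    rw [e2, ← e1]; ring
  have hlw0 : lw ≠ 0 := fun h => by
    have := hinj w (by rw [hlw, h, zero_smul])
    rw [this] at hww
    simp at hww
  have hl : lz = lw := by
    have := key 1 (by rw [one_pow, one_add_one_eq_two]; exact h2)
    simpa using this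
  intro c
  rw [hl] at key
  by_cases hc : 1 + c ^ 2 = 0
  · by_cases hc1 : 1 + (c + 1) ^ 2 = 0
    · have h4 : 1 + (c - 1) ^ 2 ≠ 0 := fun h => by
        have h5 : (2 * 2) * c = 0 := by linear_combination hc1 - h
        rw [(mul_eq_zero.1 h5).resolve_left (mul_ne_zero h2 h2)] at hc
        simp at hc
      have := mul_right_cancel₀ hlw0 (key _ h4)
      rw [map_sub, map_one] at this
      linear_combination this
    · have := mul_right_cancel₀ hlw0 (key _ hc1)
      rw [map_add, map_one] at this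
      linear_combination this
  · exact mul_right_cancel₀ hlw0 (key c hc)

end CfsgLib.KnownC.ReflRigid
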