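import Cfsg.Agent.Lib.KnownC.AutPOmega.Parity
import Cfsg.Agent.Lib.KnownC.AutPSU.Balance.Core
import Cfsg.Agent.Lib.KnownC.AutPOmega.Balance.ReflRigid

/-!
# Centralisers of involutory similitude classes have trivial odd core
-/

set_option autoImplicit false
set_option linter.unusedSectionVars false
set_option linter.style.haveILetI false

open Module QuadraticMap
open scoped Matrix

namespace CfsgLib.KnownC.AutPOmega.Balance

open CfsgLib.Orth CfsgLib.Classical
open CfsgLib.KnownC.POmegaAut (GS Φ lin lin_apply lin_injective ofOrth lin_ofOrth IsSemiInduced exists_mult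
  omegaSub mem_omegaSub_iff inn_eq conjΩ semi_mul)
open CfsgLib.KnownC.AutPSU.Balance (fixPts conj_apply_aut conj_mem_centralizer core_invariant core_bot)
open CfsgLib.KnownC.ReflRigid (rf rf_apply rf_inv rf_add rf_smul rf_isom rf_conj rf_conj_rf rf_swap rf_self rf_perp
  NdOn perpIn mem_perpIn OddGroup line_of_comm sigma_eq_id perp_finrank)

universe u

variable {F : Type u} [Field F] [Fintype F] {ι : Type} [Fintype ι] [DecidableEq ι] {Qf : (ι → F) → F}
  (Q : QuadraticForm F (ι → F)) (hQf : ∀ v, Qf v = Q v) [hQ : OCtx Q]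

/-- A group of isometries commuting with `G` in which every element has an odd power that is scalar and which is
normalised by the isometries commuting with `G`. -/
structure InvGroup (G : (ι → F) ≃ₗ[F] (ι → F)) (R : Subgroup (Equiv.Perm (ι → F))) : Prop where
  add : ∀ f ∈ R, ∀ x y, f (x + y) = f x + f y
  smul : ∀ f ∈ R, ∀ (a : F) x, f (a • x) = a • f x
  quad : ∀ f ∈ R, ∀ x, Q (f x) = Q x
  comm : ∀ f ∈ R, ∀ x, f (G x) = G (f x)
  odd : ∀ f ∈ R, ∃ k : ℕ, Odd k ∧ ∃ c : F, ∀ x, (f ^ k) x = c • x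
  conj : ∀ f ∈ R, ∀ k : orthGroup Q, (∀ x, k.1 (G x) = G (k.1 x)) → k.1.toEquiv * f * (k.1.toEquiv)⁻¹ ∈ R

variable {Q}

include hQ in
/-- The odd core of the centraliser of a class is trivial, given the two rigidity properties. -/
theorem invol_core_bot (g : GS Qf) {ν' : F} (hνg : IsSimil Q (lin Qf g) ν') (hν2 : ∃ s : ℕ, ν' ^ 2 ^ s = 1)
    (hA : ∀ R : Subgroup (Equiv.Perm (ι → F)), InvGroup Q (lin Qf g) R → ∀ f ∈ R, ∀ x, f (f x) = x)
    (hB : ∀ (T : (ι → F) → (ι → F)) (τ : F ≃+* F) (μ : F), μ ≠ 0 → (∀ x y, T (x + y) = T x + T y) →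
      (∀ (a : F) x, T (a • x) = τ a • T x) → (∀ x, T x = 0 → x = 0) → (∀ x, Q (T x) = μ * τ (Q x)) →
      (∀ x, T (lin Qf g x) = lin Qf g (T x)) →
      (∀ k ∈ commutator (orthGroup Q), (∀ x, k.1 (lin Qf g x) = lin Qf g (k.1 x)) → ∀ x, T (k.1 x) = k.1 (T x)) →
      (∀ a, τ a = a) ∧ ∀ x, T (T x) = μ • x)
    (hQf : ∀ v, Qf v = Q v) (𝒢 : Subgroup (MulAut (Cfsg.POmega F Qf))) (hinn : ∀ k, MulAut.conj k ∈ 𝒢) :
    Cfsg.pPrimeCore 2 ↥(𝒢 ⊓ Subgroup.centralizer {Φ Qf g}) = ⊥ := by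
  classical
  set x := Φ Qf g with hxdef
  set G := lin Qf g with hG
  have hinj : Function.Injective (MulAut.conj : Cfsg.POmega F Qf →* MulAut (Cfsg.POmega F Qf)) :=
    conj_injective Q hQf
  obtain ⟨ν, hν0, hν⟩ := exists_mult Qf Q hQf g
  obtain ⟨y₀, hy₀⟩ := exists_value_ne Q
  let pm : GS Qf →* Equiv.Perm (ι → F) := MonoidHom.mk' (fun h => (lin Qf h).toEquiv) fun a b => by
    rw [map_mul]; rfl
  have hpm : ∀ h v, pm h v = lin Qf h v := fun _ _ => rfl
  have hiso : ∀ w ∈ omegaSub Qf, ∀ v, Q (lin Qf w v) = Q v := fun w hw v => by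
    obtain ⟨k, -, rfl⟩ := (mem_omegaSub_iff Qf Q hQf w).1 hw
    rw [lin_ofOrth]; exact apply_quad k v
  -- commuting classes commute up to a sign
  have hsign : ∀ h : GS Qf, Φ Qf h * x = x * Φ Qf h → ∃ c : F, (c = 1 ∨ c = -1) ∧
      ∀ v, lin Qf h (G v) = c • G (lin Qf h v) := by
    intro h hh
    have h1 : Φ Qf ((g * h)⁻¹ * (h * g)) = 1 := by
      rw [map_mul, map_inv, map_mul, map_mul, inv_mul_eq_one]; exact hh.symm
    obtain ⟨c, hc⟩ := (phi_eq_one Q hQf _).1 h1
    have hcv : ∀ v, lin Qf h (G v) = c • G (lin Qf h v) := fun v => by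
      have e : lin Qf ((g * h)⁻¹ * (h * g)) v = c • v := by
        rw [lin_apply, hc, Matrix.smul_mulVec, Matrix.one_mulVec]
      have e' := congrArg (lin Qf (g * h)) e
      rw [← LinearEquiv.mul_apply, ← map_mul, mul_inv_cancel_left, map_smul, map_mul, map_mul] at e'
      exact e'
    refine ⟨c, ?_, hcv⟩
    obtain ⟨η, hη0, hη⟩ := exists_mult Qf Q hQf h
    have e := hη (G y₀)
    rw [hcv, quad_smul', hν, hν, hη] at e
    exact mul_self_eq_one_iff.1 (mul_right_cancel₀ (mul_ne_zero hν0 (mul_ne_zero hη0 hy₀)) (by linear_combination e))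
  have hkx : ∀ k : orthGroup Q, (∀ v, k.1 (G v) = G (k.1 v)) →
      Φ Qf (ofOrth Qf Q hQf k) ∈ Subgroup.centralizer {x} := fun k hk => by
    rw [Subgroup.mem_centralizer_singleton_iff, hxdef, ← map_mul, ← map_mul]
    congr 1
    refine lin_injective Qf (LinearEquiv.ext fun v => ?_)
    rw [map_mul, map_mul, lin_ofOrth]
    exact hk v
  set L := fixPts x
  set C := Cfsg.pPrimeCore 2 L
  have hC : (Nat.card C).Coprime 2 := CfsgLib.Solvable.Cores.coprime_card_pPrimeCore 2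
  set C' := (C.map L.subtype).map (MulAut.conj : _ →* MulAut (Cfsg.POmega F Qf)) with hC'
  have hCcard : Nat.card C' = Nat.card C := by
    rw [hC', Subgroup.card_map_of_injective hinj, Subgroup.card_map_of_injective L.subtype_injective]
  have hk0 : Odd (Nat.card C') := by rw [hCcard]; exact Nat.coprime_two_right.1 hC
  have hCconj : ∀ n ∈ Subgroup.centralizer {x}, ∀ d ∈ C', n * d * n⁻¹ ∈ C' := by
    rintro n hn _ ⟨d, hd, rfl⟩
    exact ⟨n d, core_invariant 2 hn hd, (conj_apply_aut n d).symm⟩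
  have hCx : ∀ d ∈ C', d * x = x * d := by
    rintro _ ⟨d, hd, rfl⟩
    obtain ⟨l, -, rfl⟩ := hd
    exact Subgroup.mem_centralizer_singleton_iff.1 ((conj_mem_centralizer hinj x _).2 l.2)
  set R := ((C'.comap (Φ Qf)) ⊓ omegaSub Qf).map pm
  have hR : InvGroup Q G R := by
    have hpow : ∀ (w : GS Qf), w ∈ C'.comap (Φ Qf) → ∃ c : F, ∀ v, lin Qf (w ^ Nat.card C') v = c • v := by
      intro w hw
      have h1 : Φ Qf (w ^ Nat.card C') = 1 := by
        rw [map_pow, ← orderOf_dvd_iff_pow_eq_one]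
        exact Subgroup.orderOf_dvd_natCard C' hw
      obtain ⟨c, hc⟩ := (phi_eq_one Q hQf _).1 h1
      exact ⟨c, fun v => by rw [lin_apply, hc, Matrix.smul_mulVec, Matrix.one_mulVec]⟩
    constructor
    · rintro _ ⟨w, -, rfl⟩ a b; exact map_add (lin Qf w) a b
    · rintro _ ⟨w, -, rfl⟩ a b; exact map_smul (lin Qf w) a b
    · rintro _ ⟨w, hw, rfl⟩ v; exact hiso w hw.2 v
    · rintro _ ⟨w, hw, rfl⟩ v
      obtain ⟨c, hc, hcv⟩ := hsign w (hCx _ hw.1)
      obtain ⟨d, hd⟩ := hpow w hw.1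
      have hj : ∀ (j : ℕ) v, lin Qf (w ^ j) (G v) = c ^ j • G (lin Qf (w ^ j) v) := fun j => by
        induction j with
        | zero => simp
        | succ j ih =>
          intro v
          rw [pow_succ', map_mul, LinearEquiv.mul_apply, ih, map_smul, hcv, smul_smul, pow_succ]
          rfl
      have e := hj (Nat.card C') y₀
      rw [hd, hd, map_smul, smul_smul] at e
      have hGy : G y₀ ≠ 0 := fun h => hy₀ (by
        rw [(LinearEquiv.map_eq_zero_iff G).1 h, QuadraticMap.map_zero])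
      have e' := smul_left_injective F hGy e
      have hd0 : d ≠ 0 := fun h => hy₀ (by
        have := hd y₀
        rw [h, zero_smul, LinearEquiv.map_eq_zero_iff] at this
        rw [this, QuadraticMap.map_zero])
      have hck : c ^ Nat.card C' = 1 := mul_right_cancel₀ hd0 (by rw [one_mul]; exact e'.symm)
      show lin Qf w (G v) = G (lin Qf w v)
      rw [hcv]
      rcases hc with rfl | rfl
      · rw [one_smul]
      · rw [hk0.neg_one_pow] at hck
        rw [hck, one_smul]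
    · rintro _ ⟨w, hw, rfl⟩
      obtain ⟨c, hc⟩ := hpow w hw.1
      exact ⟨Nat.card C', hk0, c, fun v => by rw [← map_pow]; exact hc v⟩
    · rintro _ ⟨w, hw, rfl⟩ k hk
      refine ⟨ofOrth Qf Q hQf k * w * (ofOrth Qf Q hQf k)⁻¹, ⟨?_, ?_⟩, ?_⟩
      · show Φ Qf _ ∈ C'
        rw [map_mul, map_mul, map_inv]
        exact hCconj _ (hkx k hk) _ hw.1
      · obtain ⟨s, hs, e⟩ := hw.2
        refine ⟨(conjΩ Qf (ofOrth Qf Q hQf k) ⟨s, hs⟩).1, (conjΩ Qf (ofOrth Qf Q hQf k) ⟨s, hs⟩).2, ?_⟩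
        rw [← e]
        rfl
      · rw [map_mul, map_mul, map_inv]
        have : pm (ofOrth Qf Q hQf k) = k.1.toEquiv := Equiv.ext fun v => by rw [hpm, lin_ofOrth]; rfl
        rw [this]
  have hD : C = ⊥ := by
    rw [eq_bot_iff]
    intro d hd
    rw [Subgroup.mem_bot]
    set n := MulAut.conj ((d : L) : Cfsg.POmega F Qf)
    have hn : n ∈ C' := ⟨_, ⟨d, hd, rfl⟩, rfl⟩
    have hnI : n ∈ Cfsg.Inn (Cfsg.POmega F Qf) := ⟨_, rfl⟩
    rw [inn_eq] at hnI
    obtain ⟨w, hw, hwn⟩ := hnI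
    have hwR : pm w ∈ R := ⟨w, ⟨show Φ Qf w ∈ C' by rw [hwn]; exact hn, hw⟩, rfl⟩
    have h2 := hA R hR _ hwR
    have hn2 : n * n = 1 := by
      rw [← hwn, ← map_mul, phi_eq_one Q hQf]
      refine ⟨1, Matrix.ext_iff_mulVec.2 fun v => ?_⟩
      rw [← lin_apply, map_mul, one_smul, Matrix.one_mulVec]
      exact h2 v
    have hnk : n ^ Nat.card C' = 1 := orderOf_dvd_iff_pow_eq_one.1 (Subgroup.orderOf_dvd_natCard C' hn)
    have : n = 1 := by
      obtain ⟨j, hj⟩ := hk0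
      rw [hj, pow_succ, pow_mul, pow_two, hn2, one_pow, one_mul] at hnk
      exact hnk
    exact Subtype.ext (hinj (this.trans (map_one _).symm))
  refine core_bot hinj x 𝒢 hinn hD fun n hn hcop hfix => ?_
  obtain ⟨B, τ, hn0, hn'⟩ := exists_semi Q hQf n
  let T : (ι → F) → (ι → F) := fun y => (B : Matrix ι ι F) *ᵥ fun i => τ (y i)
  have hTadd : ∀ y z, T (y + z) = T y + T z := fun y z => by
    simp only [T, ← Matrix.mulVec_add]; congr 1; funext i; simp
  have hTsmul : ∀ (a : F) y, T (a • y) = τ a • T y := fun a y => by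
    simp only [T, ← Matrix.mulVec_smul]; congr 1; funext i; simp
  have hTinj : ∀ y, T y = 0 → y = 0 := fun y hy => by
    have h0 := congrArg (fun z => ((B⁻¹ : GL ι F) : Matrix ι ι F) *ᵥ z) hy
    simp only [T, Matrix.mulVec_mulVec, Units.inv_mul, Matrix.one_mulVec, Matrix.mulVec_zero] at h0
    funext i
    simpa using congrFun h0 i
  obtain ⟨η, hη⟩ := id hn0
  have hQT : ∀ y, Q (T y) = η * τ (Q y) := fun y => by rw [← hQf, ← hQf]; exact hη y
  -- commutation with a similitude up to a scalar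
  have hcomm : ∀ W : GS Qf, n * Φ Qf W = Φ Qf W * n → ∃ c : F, (∀ y, T (lin Qf W y) = c • lin Qf W (T y)) ∧
      ∃ θ, θ ≠ 0 ∧ IsSimil Q (lin Qf W) θ ∧ τ θ * η * τ (Q y₀) = c * c * (θ * (η * τ (Q y₀))) := by
    intro W hW
    have h1 := semi_left W ⟨hn0, hn'⟩
    have h2 := semi_right ⟨hn0, hn'⟩ W
    rw [hW] at h2
    obtain ⟨c, hc⟩ := semi_same Q hQf h1 h2
    have key : ∀ y, T (lin Qf W y) = (c : F) • lin Qf W (T y) := fun y => by
      have e1 := congrArg (fun M : GL ι F => (M : Matrix ι ι F) *ᵥ fun i => τ (y i)) hc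
      simp only [Units.val_mul, sclM_coe, ← Matrix.mulVec_mulVec, Matrix.smul_mulVec, Matrix.one_mulVec] at e1
      rw [show ((Matrix.GeneralLinearGroup.map τ.toRingHom W.1 : GL ι F) : Matrix ι ι F) *ᵥ (fun i => τ (y i)) =
        fun i => τ ((((W.1 : GL ι F) : Matrix ι ι F) *ᵥ y) i) from POmegaAut.map_mulVec' τ _ y] at e1
      rw [lin_apply, lin_apply]
      exact e1
    obtain ⟨θ, hθ0, hθ⟩ := exists_mult Qf Q hQf W
    have hfixθ : τ θ * η * τ (Q y₀) = (c : F) * c * (θ * (η * τ (Q y₀))) := by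
      have e := hQT (lin Qf W y₀)
      rw [key, quad_smul', hθ, hθ, hQT, map_mul] at e
      linear_combination -e
    exact ⟨c, key, θ, hθ0, hθ, hfixθ⟩
  -- the field component has odd order
  obtain ⟨π, hπ, -⟩ := exists_field_hom Q hQf
  have hτn : τ ^ orderOf n = 1 := by rw [← hπ B τ n ⟨hn0, hn'⟩, ← map_pow, pow_orderOf_eq_one, map_one]
  have hnodd : Odd (orderOf n) := Nat.coprime_two_right.1 hcop
  have htwo : ∀ (s : ℕ) (a : F), a ^ 2 ^ s = 1 → τ a = a := by
    intro s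
    induction s with
    | zero => intro a ha; rw [pow_zero, pow_one] at ha; rw [ha, map_one]
    | succ s ih =>
      intro a ha
      have h1 : τ a * τ a = a * a := by
        rw [← map_mul]
        exact ih (a * a) (by rw [← pow_two, ← pow_mul, ← pow_succ']; exact ha)
      rcases mul_self_eq_mul_self_iff.1 h1 with h | h
      · exact h
      have hk : ∀ k : ℕ, (τ ^ k) a = (-1) ^ k * a := fun k => by
        induction k with
        | zero => simp
        | succ k ihk => rw [pow_succ', RingAut.mul_apply, ihk, map_mul, map_pow, map_neg, map_one, h, pow_succ']; ring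
      have h2 := hk (orderOf n)
      rw [hτn, hnodd.neg_one_pow, RingAut.one_apply, neg_one_mul] at h2
      exact h.trans h2.symm
  have hpm1 : ∀ W : GS Qf, n * Φ Qf W = Φ Qf W * n → (∀ θ, IsSimil Q (lin Qf W) θ → τ θ = θ) →
      ∃ c : F, (c = 1 ∨ c = -1) ∧ ∀ y, T (lin Qf W y) = c • lin Qf W (T y) := by
    intro W hW hθfix
    obtain ⟨c, key, θ, hθ0, hθ, e⟩ := hcomm W hW
    rw [hθfix θ hθ] at e
    exact ⟨c, mul_self_eq_one_iff.1 (mul_right_cancel₀
      (mul_ne_zero hθ0 (mul_ne_zero η.ne_zero ((map_ne_zero τ).2 hy₀))) (by linear_combination -e)), key⟩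
  let T₂ : (ι → F) → (ι → F) := fun y => T (T y)
  have hsq : ∀ (c : F) (W : GS Qf), (c = 1 ∨ c = -1) → (∀ y, T (lin Qf W y) = c • lin Qf W (T y)) →
      ∀ y, T₂ (lin Qf W y) = lin Qf W (T₂ y) := by
    intro c W hc h y
    show T (T _) = _
    rw [h, hTsmul, h, smul_smul]
    rcases hc with rfl | rfl <;> simp [T₂]
  obtain ⟨s₀, hs₀⟩ := hν2
  obtain ⟨c₀, hc₀, hc₀T⟩ := hpm1 g (Subgroup.mem_centralizer_singleton_iff.1 hn) fun θ hθ => by
    rw [mul_right_cancel₀ hy₀ ((hθ y₀).symm.trans (hνg y₀))]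
    exact htwo s₀ ν' hs₀
  obtain ⟨hid, hTT⟩ := hB T₂ (τ.trans τ) (η * τ η) (mul_ne_zero η.ne_zero ((map_ne_zero τ).2 η.ne_zero))
    (fun a b => by show T (T _) = _; rw [hTadd, hTadd]) (fun a b => by show T (T _) = _; rw [hTsmul, hTsmul]; rfl)
    (fun a ha => hTinj _ (hTinj _ ha))
    (fun a => by show Q (T (T a)) = _; rw [hQT, hQT, map_mul, RingEquiv.trans_apply]; ring)
    (hsq c₀ g hc₀ hc₀T) (fun k hk hkG => by
      set W := ofOrth Qf Q hQf k with hW
      have hWm : W ∈ omegaSub Qf := (mem_omegaSub_iff Qf Q hQf W).2 ⟨k, hk, rfl⟩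
      obtain ⟨l, hl⟩ : ∃ l, MulAut.conj l = Φ Qf W := phi_mem_inn hWm
      have hlfix : l ∈ L := (conj_mem_centralizer hinj x l).1 (hl ▸ hkx k hkG)
      have hWn : n * Φ Qf W = Φ Qf W * n := by
        rw [← hl, ← mul_inv_eq_iff_eq_mul, conj_apply_aut, hfix l hlfix]
      obtain ⟨c, hc, hcT⟩ := hpm1 W hWn fun θ hθ => by
        have e := hθ y₀
        rw [hiso W hWm] at e
        rw [show θ = 1 from mul_right_cancel₀ hy₀ (e.symm.trans (one_mul _).symm), map_one]
      intro y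
      have := hsq c W hc hcT y
      rwa [hW, lin_ofOrth] at this)
  -- the fourth power is the identity
  have h2s := semi_mul Qf (⟨hn0, hn'⟩ : IsSemiInduced Qf B τ n) ⟨hn0, hn'⟩
  have hσ1 : τ.trans τ = RingEquiv.refl F := RingEquiv.ext hid
  rw [hσ1] at h2s
  have h4 := semi_mul Qf h2s h2s
  rw [show (RingEquiv.refl F).trans (RingEquiv.refl F) = RingEquiv.refl F from rfl] at h4
  set B₂ := B * Matrix.GeneralLinearGroup.map τ.toRingHom B
  have hB₂ : ∀ y, (B₂ : Matrix ι ι F) *ᵥ y = T₂ y := fun y => by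
    rw [Units.val_mul, ← Matrix.mulVec_mulVec]
    show _ = (B : Matrix ι ι F) *ᵥ fun i => τ ((T y) i)
    congr 1
    conv_lhs => rw [show y = fun i => τ (τ (y i)) from funext fun i => (hid (y i)).symm]
    exact POmegaAut.map_mulVec' τ _ _
  have hη0 : (η : F) * τ η ≠ 0 := mul_ne_zero η.ne_zero ((map_ne_zero τ).2 η.ne_zero)
  have e : B₂ * Matrix.GeneralLinearGroup.map (RingEquiv.refl F).toRingHom B₂ = sclM (Units.mk0 _ hη0) * 1 := by
    refine Units.ext (Matrix.ext_iff_mulVec.2 fun y => ?_)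
    rw [mul_one, sclM_coe, Units.val_mul, ← Matrix.mulVec_mulVec, Matrix.smul_mulVec, Matrix.one_mulVec]
    show (B₂ : Matrix ι ι F) *ᵥ ((B₂ : Matrix ι ι F) *ᵥ y) = _
    rw [hB₂, hB₂]
    exact hTT y
  rw [e] at h4
  have hn4 : (n * n) * (n * n) = 1 := induced_unique h4 (semi_scl Q hQf _ one_induced)
  have h4' : n ^ 4 = 1 := by rw [← hn4, ← pow_two, ← pow_two, ← pow_mul]
  have hdvd := orderOf_dvd_of_pow_eq_one h4'
  rw [← orderOf_eq_one_iff]
  exact Nat.eq_one_of_dvd_coprimes ((Nat.Coprime.pow_right 2 hcop) : (orderOf n).Coprime (2 ^ 2)) dvd_rfl hdvd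

end CfsgLib.KnownC.AutPOmega.Balance
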