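import Cfsg.Agent.Lib.KnownC.AutPOmega.Balance.InvolSplit
import Mathlib.Algebra.QuadraticAlgebra.Basic

/-!
# Similitudes whose square is a non-square scalar
-/

set_option autoImplicit false
set_option linter.unusedSectionVars false
set_option linter.style.haveILetI false

open Module QuadraticMap
open scoped Matrix

namespace CfsgLib.KnownC.AutPOmega.Balance

open CfsgLib.Orth CfsgLib.Classical
open CfsgLib.KnownC.POmegaAut (GS Φ lin lin_apply)
open CfsgLib.KnownC.ReflRigid (rf rf_apply rf_inv rf_add rf_smul rf_isom NdOn perpIn OddGroup line_of_comm sigma_eq_id)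

universe u

variable {F : Type u} [Field F] [Fintype F] {ι : Type} [Fintype ι] [DecidableEq ι]
  {Q : QuadraticForm F (ι → F)}

/-- The module structure over the quadratic extension given by a square root of a scalar. -/
@[reducible] def extModule (lam : F) (G : (ι → F) ≃ₗ[F] (ι → F)) (hG : ∀ v, G (G v) = lam • v) :
    Module (QuadraticAlgebra F lam 0) (ι → F) where
  smul e v := e.re • v + e.im • G v
  one_smul v := by show (1 : F) • v + (0 : F) • G v = v; module
  mul_smul e f v := by
    show (e.re * f.re + lam * e.im * f.im) • v + (e.re * f.im + e.im * f.re + 0 * e.im * f.im) • G v =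
      e.re • (f.re • v + f.im • G v) + e.im • G (f.re • v + f.im • G v)
    rw [map_add, map_smul, map_smul, hG]
    module
  smul_zero e := by show e.re • (0 : ι → F) + e.im • G 0 = 0; simp
  smul_add e v w := by
    show e.re • (v + w) + e.im • G (v + w) = (e.re • v + e.im • G v) + (e.re • w + e.im • G w)
    rw [map_add]; module
  add_smul e f v := by
    show (e.re + f.re) • v + (e.im + f.im) • G v = (e.re • v + e.im • G v) + (f.re • v + f.im • G v)
    module
  zero_smul v := by show (0 : F) • v + (0 : F) • G v = 0; module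

/-- A similitude whose square is a non-square scalar equal to its multiplier. -/
theorem invol_ext {Qf : (ι → F) → F} (hQf : ∀ v, Qf v = Q v) [hQ : OCtx Q] (h2 : (2 : F) ≠ 0) (g : GS Qf)
    {lam : F} (hns : ¬ IsSquare lam) (h2pow : ∃ s : ℕ, lam ^ 2 ^ s = 1) (hsim : IsSimil Q (lin Qf g) lam)
    (hsq : ∀ v, lin Qf g (lin Qf g v) = lam • v) (hdim : 8 ≤ Fintype.card ι)
    (𝒢 : Subgroup (MulAut (Cfsg.POmega F Qf))) (hinn : ∀ k, MulAut.conj k ∈ 𝒢) :
    Cfsg.pPrimeCore 2 ↥(𝒢 ⊓ Subgroup.centralizer {Φ Qf g}) = ⊥ := by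
  classical
  set G := lin Qf g with hG
  have hl0 : lam ≠ 0 := fun h => hns (h ▸ IsSquare.zero)
  haveI : Fact (∀ r : F, r ^ 2 ≠ lam + 0 * r) := ⟨fun r hr => hns ⟨r, by linear_combination -hr⟩⟩
  letI : Module (QuadraticAlgebra F lam 0) (ι → F) := extModule lam G hsq
  have hsm : ∀ (e : QuadraticAlgebra F lam 0) v, e • v = e.re • v + e.im • G v := fun e v => rfl
  haveI : IsScalarTower F (QuadraticAlgebra F lam 0) (ι → F) := ⟨fun r e v => by
    rw [hsm, hsm, QuadraticAlgebra.re_smul, QuadraticAlgebra.im_smul, smul_eq_mul, smul_eq_mul]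
    module⟩
  haveI : FiniteDimensional (QuadraticAlgebra F lam 0) (ι → F) := Module.Finite.of_restrictScalars_finite F _ _
  letI : Fintype (QuadraticAlgebra F lam 0) := Fintype.ofEquiv _ (QuadraticAlgebra.equivProd lam 0).symm
  set B := QuadraticMap.polarBilin Q
  have hBs : ∀ x y, B x y = B y x := fun x y => polar_comm _ _ _
  have hGB : ∀ x y, B (G x) (G y) = lam * B x y := fun x y => hsim.polar x y
  have hGsym : ∀ x y, B (G x) y = B x (G y) := fun x y => by
    have h1 := hGB x (G y)
    rw [hsq, map_smul, smul_eq_mul] at h1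
    exact mul_left_cancel₀ hl0 h1
  let β : (ι → F) →ₗ[QuadraticAlgebra F lam 0] (ι → F) →ₗ[QuadraticAlgebra F lam 0] QuadraticAlgebra F lam 0 :=
    LinearMap.mk₂ _ (fun x y => ⟨B x y, lam⁻¹ * B (G x) y⟩)
      (fun x x' y => QuadraticAlgebra.ext (by simp) (by simp [mul_add]))
      (fun e x y => QuadraticAlgebra.ext
        (by simp [hsm, smul_eq_mul]; field_simp)
        (by simp [hsm, hsq, smul_eq_mul]; field_simp))
      (fun x y y' => QuadraticAlgebra.ext (by simp) (by simp [mul_add]))
      (fun e x y => QuadraticAlgebra.ext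
        (by simp [hsm, ← hGsym, smul_eq_mul]; field_simp)
        (by simp [hsm, hGB, smul_eq_mul]; field_simp))
  have hβ : ∀ x y, β x y = ⟨B x y, lam⁻¹ * B (G x) y⟩ := fun x y => rfl
  have hs : ∀ x y, β x y = β y x := fun x y => by
    rw [hβ, hβ, hBs x y, hGsym x y, hBs x (G y)]
  have h2' : (2 : QuadraticAlgebra F lam 0) ≠ 0 := fun h => h2 (by
    apply QuadraticAlgebra.algebraMap_injective (a := lam) (b := 0)
    rwa [map_zero, map_ofNat])
  have hnd : NdOn β ⊤ := fun x _ hx0 => by
    obtain ⟨y, hy⟩ : ∃ y, B x y ≠ 0 := by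
      by_contra h
      push Not at h
      exact hx0 (hQ.nd.1 x h)
    exact ⟨y, trivial, fun h => hy (by simpa [hβ] using congrArg QuadraticAlgebra.re h)⟩
  have hGsmul : ∀ v, G v = (⟨0, 1⟩ : QuadraticAlgebra F lam 0) • v := fun v => by rw [hsm]; simp
  have hFsmul : ∀ (r : F) (v : ι → F), (algebraMap F (QuadraticAlgebra F lam 0) r) • v = r • v := fun r v =>
    IsScalarTower.algebraMap_smul _ r v
  have hrank : 4 ≤ finrank (QuadraticAlgebra F lam 0) (⊤ : Submodule (QuadraticAlgebra F lam 0) (ι → F)) := by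
    have h := Module.finrank_mul_finrank F (QuadraticAlgebra F lam 0) (ι → F)
    rw [QuadraticAlgebra.finrank_eq_two, finrank_fintype_fun_eq_card] at h
    rw [finrank_top]
    omega
  have hrfG : ∀ z x, rf β z (G x) = G (rf β z x) := fun z x => by rw [hGsmul, rf_smul, ← hGsmul]
  have hrfF : ∀ z (r : F) x, rf β z (r • x) = r • rf β z x := fun z r x => by
    rw [← hFsmul, rf_smul, hFsmul]
  have hrf : ∀ z, ∃ a : orthGroup Q, ∀ x, a.1 x = rf β z x := fun z =>
    exists_orth h2 _ (rf_add β z) (hrfF z) fun x y => congrArg QuadraticAlgebra.re (rf_isom β hs z x y)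
  refine invol_core_bot g hsim h2pow ?_ ?_ hQf 𝒢 hinn
  · intro R hR f hf
    have hsmulE : ∀ h ∈ R, ∀ (e : QuadraticAlgebra F lam 0) x, h (e • x) = e • h x := fun h hh e x => by
      rw [hsm, hsm, hR.add h hh, hR.smul h hh, hR.smul h hh, hR.comm h hh]
    have hisom : ∀ h ∈ R, ∀ x y, β (h x) (h y) = β x y := fun h hh x y => by
      have hB : ∀ x y, B (h x) (h y) = B x y := fun x y => by
        show polar Q (h x) (h y) = polar Q x y
        simp only [polar, ← hR.add h hh, hR.quad h hh]
      rw [hβ, hβ, ← hR.comm h hh, hB, hB]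
    have hOG : OddGroup β ⊤ R := ⟨hR.add, hsmulE, hisom, fun _ _ _ _ => trivial,
      fun h hh => by
        obtain ⟨k, hk, c, hc⟩ := hR.odd h hh
        exact ⟨k, hk, algebraMap F _ c, fun x => by rw [hc, hFsmul]⟩,
      fun h hh z _ _ => by
        obtain ⟨a, hae⟩ := hrf z
        have h1 := hR.conj h hh a (fun x => by rw [hae, hae]; exact hrfG z x)
        rwa [show a.1.toEquiv = rf β z from Equiv.ext hae, rf_inv] at h1⟩
    let f2 : (ι → F) →ₗ[QuadraticAlgebra F lam 0] (ι → F) :=
      { toFun := fun x => f (f x) - x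
        map_add' := fun x y => by rw [hR.add f hf, hR.add f hf]; abel
        map_smul' := fun c x => by rw [hsmulE f hf, hsmulE f hf, RingHom.id_apply, smul_sub] }
    have hz : ∀ u ∈ (⊤ : Submodule (QuadraticAlgebra F lam 0) (ι → F)), β u u ≠ 0 → f2 u = 0 := by
      intro u hu ha
      obtain ⟨c, hc⟩ := hOG.line β hs h2' hnd (by omega) hf hu ha
      have h1 := hisom f hf u u
      rw [hc] at h1
      simp only [map_smul, LinearMap.smul_apply, smul_eq_mul] at h1
      show f (f u) - u = 0
      rw [hc, hsmulE f hf, hc, smul_smul, mul_right_cancel₀ ha (show c * c * β u u = 1 * β u u by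
        linear_combination h1), one_smul, sub_self]
    exact fun x => sub_eq_zero.1 (hnd.eq_zero β hs h2' f2 hz x trivial)
  · intro T τ μ hμ hadd hsmul hinj hQT hTG hTk
    have hneg : ∀ y, T (-y) = -T y := fun y => by
      rw [← neg_one_smul F y, hsmul, map_neg, map_one, neg_one_smul]
    have hτl : τ lam = lam := by
      obtain ⟨y, hy⟩ := exists_value_ne Q
      have e := hTG (G y)
      rw [hsq, hsmul, hTG y, hsq] at e
      exact smul_left_injective F (fun h => hy (by rw [hinj y h, QuadraticMap.map_zero])) e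
    let τE : QuadraticAlgebra F lam 0 →+* QuadraticAlgebra F lam 0 :=
      { toFun := fun e => ⟨τ e.re, τ e.im⟩
        map_one' := QuadraticAlgebra.ext (map_one τ) (map_zero τ)
        map_mul' := fun e f => QuadraticAlgebra.ext (by simp [hτl]) (by simp)
        map_zero' := QuadraticAlgebra.ext (map_zero τ) (map_zero τ)
        map_add' := fun e f => QuadraticAlgebra.ext (by simp) (by simp) }
    have hsmulE : ∀ (e : QuadraticAlgebra F lam 0) x, T (e • x) = τE e • T x := fun e x => by
      rw [hsm, hsm, hadd, hsmul, hsmul, hTG]; rfl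
    have hline : ∀ u ∈ (⊤ : Submodule (QuadraticAlgebra F lam 0) (ι → F)), β u u ≠ 0 →
        ∃ l : QuadraticAlgebra F lam 0, T u = l • u := by
      intro u hu ha
      have h3 : 3 ≤ finrank (QuadraticAlgebra F lam 0) (perpIn β ⊤ u) := by
        have := ReflRigid.perp_finrank β hu ha
        omega
      obtain ⟨w, hw, z, hz, hww, hzz, hwz⟩ := (hnd.perp β hs hu ha).exists_two β hs h2' h3 ha
      have hhalf : ∀ v, β v v = β u u → β u v = 0 →
          ∀ y, T ((rf β u * rf β v) y) = (rf β u * rf β v) (T y) := by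
        intro v hvv huv y
        obtain ⟨k, hk, hke⟩ := exists_halfturn β hs h2' hrf ha hvv huv
        rw [← hke, ← hke]
        refine hTk k hk (fun x => ?_) y
        rw [hke, hke, Equiv.Perm.mul_apply, Equiv.Perm.mul_apply, hrfG, hrfG]
      exact line_of_comm β hs h2' T ha hww hzz hw.2 hz.2 hwz hneg (hhalf w hww hw.2) (hhalf z hzz hz.2)
    have hτE : ∀ e, τE e = e := sigma_eq_id β hs h2' hnd (by omega) T τE hadd hsmulE hinj hline
    have hτ : ∀ a, τ a = a := fun a => congrArg QuadraticAlgebra.re (hτE ⟨a, 0⟩)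
    refine ⟨hτ, fun x => ?_⟩
    let f2 : (ι → F) →ₗ[QuadraticAlgebra F lam 0] (ι → F) :=
      { toFun := fun x => T (T x) - algebraMap F (QuadraticAlgebra F lam 0) μ • x
        map_add' := fun x y => by rw [hadd, hadd]; module
        map_smul' := fun c x => by rw [hsmulE, hτE, hsmulE, hτE, RingHom.id_apply]; module }
    have hBT : ∀ a b, B (T a) (T b) = μ * B a b := fun a b => by
      show polar Q (T a) (T b) = μ * polar Q a b
      simp only [polar, ← hadd, hQT, hτ]; ring
    have hz : ∀ u ∈ (⊤ : Submodule (QuadraticAlgebra F lam 0) (ι → F)), β u u ≠ 0 → f2 u = 0 := by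
      intro u hu ha
      obtain ⟨l, hl⟩ := hline u hu ha
      have h1 : β (T u) (T u) = algebraMap F (QuadraticAlgebra F lam 0) μ * β u u :=
        QuadraticAlgebra.ext (by simp [hβ, hBT, QuadraticAlgebra.algebraMap_eq])
          (by simp [hβ, QuadraticAlgebra.algebraMap_eq]; rw [← hTG, hBT]; ring)
      rw [hl] at h1
      simp only [map_smul, LinearMap.smul_apply, smul_eq_mul] at h1
      show T (T u) - algebraMap F (QuadraticAlgebra F lam 0) μ • u = 0
      rw [hl, hsmulE, hτE, hl, smul_smul, mul_right_cancel₀ ha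
        (show l * l * β u u = algebraMap F (QuadraticAlgebra F lam 0) μ * β u u by linear_combination h1), sub_self]
    rw [← hFsmul]
    exact sub_eq_zero.1 (hnd.eq_zero β hs h2' f2 hz x trivial)

end CfsgLib.KnownC.AutPOmega.Balance
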