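import Cfsg.Agent.Lib.KnownC.AutPOmega.Balance.Invol

/-!
# Involutions of the orthogonal space
-/

set_option autoImplicit false
set_option linter.unusedSectionVars false
set_option linter.style.haveILetI false

open Module QuadraticMap
open scoped Matrix commutatorElement

namespace CfsgLib.KnownC.AutPOmega.Balance

open CfsgLib.Orth CfsgLib.Classical
open CfsgLib.KnownC.POmegaAut (GS Φ lin lin_apply)
open CfsgLib.KnownC.ReflRigid (rf rf_apply rf_inv rf_add rf_smul rf_isom rf_conj rf_conj_rf rf_swap rf_self rf_perp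
  NdOn perpIn mem_perpIn OddGroup line_of_comm sigma_eq_id)

universe u

variable {F : Type u} [Field F] [Fintype F] {ι : Type} [Fintype ι] [DecidableEq ι]
  {Q : QuadraticForm F (ι → F)}

/-- Linear permutations preserving the polar form are isometries. -/
theorem exists_orth (h2 : (2 : F) ≠ 0) (f : Equiv.Perm (ι → F)) (hadd : ∀ x y, f (x + y) = f x + f y)
    (hsmul : ∀ (c : F) x, f (c • x) = c • f x) (hpol : ∀ x y, polar Q (f x) (f y) = polar Q x y) :
    ∃ a : orthGroup Q, ∀ x, a.1 x = f x := by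
  refine ⟨⟨{ f with map_add' := hadd, map_smul' := hsmul }, fun v => ?_⟩, fun x => rfl⟩
  refine mul_left_cancel₀ h2 ?_
  show 2 * Q (f v) = 2 * Q v
  rw [← polar_self', ← polar_self', hpol]

/-- The product of the reflections in two orthogonal vectors of equal value is a commutator of isometries. -/
theorem exists_halfturn {K : Type*} [Field K] [Module K (ι → F)] (β : (ι → F) →ₗ[K] (ι → F) →ₗ[K] K)
    (hs : ∀ x y, β x y = β y x) (h2 : (2 : K) ≠ 0) (hrf : ∀ z, ∃ a : orthGroup Q, ∀ x, a.1 x = rf β z x)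
    {u w : ι → F} (hu : β u u ≠ 0) (hw : β w w = β u u) (huw : β u w = 0) :
    ∃ k ∈ commutator (orthGroup Q), ∀ x, k.1 x = (rf β u * rf β w) x := by
  obtain ⟨a, ha⟩ := hrf u
  obtain ⟨b, hb⟩ := hrf (u - w)
  have hne : β (u - w) (u - w) ≠ 0 := by
    rw [show β (u - w) (u - w) = 2 * β u u by simp [hs w u, huw, hw]; ring]
    exact mul_ne_zero h2 hu
  have hsw : rf β (u - w) * rf β u * rf β (u - w) = rf β w := by
    rw [rf_conj_rf β hs, rf_swap β hs h2 hw hne]
  have hinv : ∀ (c : orthGroup Q) z, (∀ x, c.1 x = rf β z x) → ∀ x, (c⁻¹).1 x = rf β z x := by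
    intro c z hc x
    apply c.1.injective
    show c.1 (c.1.symm x) = c.1 (rf β z x)
    rw [LinearEquiv.apply_symm_apply, hc]
    exact (ReflRigid.rfFun_invol β z x).symm
  refine ⟨⁅a, b⁆, Subgroup.commutator_mem_commutator (Subgroup.mem_top a) (Subgroup.mem_top b), fun x => ?_⟩
  rw [commutatorElement_def, ← hsw]
  show a.1 (b.1 ((a⁻¹).1 ((b⁻¹).1 x))) = _
  rw [hinv b _ hb, hinv a _ ha, hb, ha]
  rfl

/-- An involutory isometry whose eigenspaces are large enough. -/
theorem invol_split {Qf : (ι → F) → F} (hQf : ∀ v, Qf v = Q v) [hQ : OCtx Q] (h2 : (2 : F) ≠ 0) (g : GS Qf)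
    (hsim : IsSimil Q (lin Qf g) 1) (hinv : ∀ v, lin Qf g (lin Qf g v) = v)
    (hW : 4 ≤ finrank F (LinearMap.ker ((lin Qf g).toLinearMap - LinearMap.id)))
    (hU : finrank F (LinearMap.ker ((lin Qf g).toLinearMap + LinearMap.id)) ≠ 2)
    (𝒢 : Subgroup (MulAut (Cfsg.POmega F Qf))) (hinn : ∀ k, MulAut.conj k ∈ 𝒢) :
    Cfsg.pPrimeCore 2 ↥(𝒢 ⊓ Subgroup.centralizer {Φ Qf g}) = ⊥ := by
  classical
  set G := lin Qf g with hG
  set W := LinearMap.ker (G.toLinearMap - LinearMap.id)
  set U := LinearMap.ker (G.toLinearMap + LinearMap.id)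
  set β := QuadraticMap.polarBilin Q
  have hs : ∀ x y, β x y = β y x := fun x y => polar_comm _ _ _
  have hself : ∀ x, β x x = 2 * Q x := fun x => polar_self' Q x
  have hWm : ∀ {x}, x ∈ W ↔ G x = x := fun {x} => by simp [W, sub_eq_zero]
  have hUm : ∀ {x}, x ∈ U ↔ G x = -x := fun {x} => by simp [U, add_eq_zero_iff_eq_neg]
  have hGB : ∀ x y, β (G x) (G y) = β x y := fun x y => by
    have := hsim.polar x y
    simpa [β] using this
  have heig : ∀ {z}, z ∈ W ∨ z ∈ U → ∀ x, G (rf β z x) = rf β z (G x) := by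
    intro z hz x
    rw [rf_apply, rf_apply, map_sub, map_smul]
    rcases hz with hz | hz
    · have h1 : β z (G x) = β z x := by conv_lhs => rw [← hWm.1 hz, hGB]
      rw [hWm.1 hz, h1]
    · have h1 : β z (G x) = -β z x := by
        have := hGB z x
        rw [hUm.1 hz, map_neg, LinearMap.neg_apply] at this
        linear_combination -this
      rw [hUm.1 hz, h1]
      module
  have hndW : NdOn β W := fun x hx hx0 => by
    obtain ⟨y, hy⟩ : ∃ y, β x y ≠ 0 := by
      by_contra h
      push Not at h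
      exact hx0 (hQ.nd.1 x h)
    refine ⟨y + G y, hWm.2 (by rw [map_add, hinv, add_comm]), ?_⟩
    have h1 : β x (G y) = β x y := by conv_lhs => rw [← hWm.1 hx, hGB]
    rw [map_add, h1, ← two_mul]
    exact mul_ne_zero h2 hy
  have hndU : NdOn β U := fun x hx hx0 => by
    obtain ⟨y, hy⟩ : ∃ y, β x y ≠ 0 := by
      by_contra h
      push Not at h
      exact hx0 (hQ.nd.1 x h)
    refine ⟨y - G y, hUm.2 (by rw [map_sub, hinv]; abel), ?_⟩
    have h1 : β x (G y) = -β x y := by
      have := hGB x y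
      rw [hUm.1 hx, map_neg, LinearMap.neg_apply] at this
      linear_combination -this
    rw [map_sub, h1, sub_neg_eq_add, ← two_mul]
    exact mul_ne_zero h2 hy
  have hdec : ∀ x, ∃ w ∈ W, ∃ u ∈ U, x = w + u := fun x => by
    refine ⟨(2 : F)⁻¹ • (x + G x), hWm.2 (by rw [map_smul, map_add, hinv, add_comm]),
      (2 : F)⁻¹ • (x - G x), hUm.2 (by rw [map_smul, map_sub, hinv]; module), ?_⟩
    match_scalars <;> field_simp <;> ring
  have hrf : ∀ z, ∃ a : orthGroup Q, ∀ x, a.1 x = rf β z x := fun z =>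
    exists_orth h2 _ (rf_add β z) (rf_smul β z) (rf_isom β hs z)
  have hlin : ∀ (f : (ι → F) →ₗ[F] (ι → F)), (∀ x ∈ W, β x x ≠ 0 → f x = 0) → (∀ x ∈ U, β x x ≠ 0 → f x = 0) →
      ∀ x, f x = 0 := fun f hfW hfU x => by
    obtain ⟨w, hw, u, hu, rfl⟩ := hdec x
    rw [map_add, hndW.eq_zero β hs h2 f hfW w hw, hndU.eq_zero β hs h2 f hfU u hu, add_zero]
  refine invol_core_bot g hsim ⟨0, one_pow _⟩ ?_ ?_ hQf 𝒢 hinn
  · intro R hR f hf
    have hline : ∀ S, (S = W ∨ S = U) → ∀ u ∈ S, β u u ≠ 0 → ∃ c : F, f u = c • u := by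
      intro S hS u hu ha
      have hmaps : ∀ h ∈ R, ∀ x ∈ S, h x ∈ S := by
        intro h hh x hx
        rcases hS with rfl | rfl
        · exact hWm.2 (by rw [← hR.comm h hh, hWm.1 hx])
        · refine hUm.2 ?_
          rw [← hR.comm h hh, hUm.1 hx, ← neg_one_smul F, hR.smul h hh, neg_one_smul]
      have hnd : NdOn β S := by rcases hS with rfl | rfl <;> assumption
      by_cases h3 : 3 ≤ finrank F S
      · refine OddGroup.line (K := F) (R := R) β hs h2 ⟨hR.add, hR.smul, fun h hh x y => ?_, hmaps, hR.odd,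
          fun h hh z hz hzz => ?_⟩ hnd h3 hf hu ha
        · show polar Q (h x) (h y) = polar Q x y
          simp only [polar, ← hR.add h hh, hR.quad h hh]
        · obtain ⟨a, hae⟩ := hrf z
          have hz' : z ∈ W ∨ z ∈ U := by rcases hS with rfl | rfl <;> [exact Or.inl hz; exact Or.inr hz]
          have h1 := hR.conj h hh a (fun x => by rw [hae, hae]; exact (heig hz' x).symm)
          rwa [show a.1.toEquiv = rf β z from Equiv.ext hae, rf_inv] at h1
      · have h1 : finrank F S = 1 := by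
          have hu0 : u ≠ 0 := fun h => ha (by rw [h]; simp)
          have : 1 ≤ finrank F S := by
            rw [Nat.one_le_iff_ne_zero, Ne, Submodule.finrank_eq_zero]
            exact fun h => hu0 ((Submodule.mem_bot F).1 (h ▸ hu))
          rcases hS with rfl | rfl <;> omega
        have hu0 : (⟨u, hu⟩ : S) ≠ 0 := fun h => ha (by rw [show u = 0 from congrArg Subtype.val h]; simp)
        obtain ⟨c, hc⟩ := exists_smul_eq_of_finrank_eq_one h1 hu0 ⟨f u, hmaps f hf u hu⟩
        exact ⟨c, (congrArg Subtype.val hc).symm⟩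
    let f2 : (ι → F) →ₗ[F] (ι → F) :=
      { toFun := fun x => f (f x) - x
        map_add' := fun x y => by rw [hR.add f hf, hR.add f hf]; abel
        map_smul' := fun c x => by rw [hR.smul f hf, hR.smul f hf, RingHom.id_apply, smul_sub] }
    have hz : ∀ S, (S = W ∨ S = U) → ∀ u ∈ S, β u u ≠ 0 → f2 u = 0 := by
      intro S hS u hu ha
      obtain ⟨c, hc⟩ := hline S hS u hu ha
      have hQu : Q u ≠ 0 := fun h => ha (by rw [hself, h, mul_zero])
      have h1 := hR.quad f hf u
      rw [hc, quad_smul'] at h1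
      show f (f u) - u = 0
      rw [hc, hR.smul f hf, hc, smul_smul, mul_right_cancel₀ hQu (h1.trans (one_mul _).symm), one_smul, sub_self]
    exact fun x => sub_eq_zero.1 (hlin f2 (hz W (Or.inl rfl)) (hz U (Or.inr rfl)) x)
  · intro T τ μ hμ hadd hsmul hinj hQT hTG hTk
    have hneg : ∀ y, T (-y) = -T y := fun y => by
      rw [← neg_one_smul F y, hsmul, map_neg, map_one, neg_one_smul]
    have hline : ∀ u, u ∈ W ∨ u ∈ U → β u u ≠ 0 → ∃ l : F, T u = l • u := by
      intro u hu ha
      obtain ⟨w, hw, z, hz, hww, hzz, hwz, huw, huz⟩ : ∃ w ∈ W, ∃ z ∈ W, β w w = β u u ∧ β z z = β u u ∧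
          β w z = 0 ∧ β u w = 0 ∧ β u z = 0 := by
        rcases hu with hu | hu
        · have h3 : 3 ≤ finrank F (perpIn β W u) := by
            have := ReflRigid.perp_finrank β hu ha
            omega
          obtain ⟨w, hw, z, hz, h1, h1', h1''⟩ := (hndW.perp β hs hu ha).exists_two β hs h2 h3 ha
          exact ⟨w, hw.1, z, hz.1, h1, h1', h1'', hw.2, hz.2⟩
        · obtain ⟨w, hw, z, hz, h1, h1', h1''⟩ := hndW.exists_two β hs h2 (by omega) ha
          have hperp : ∀ v ∈ W, β u v = 0 := fun v hv => by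
            have := hGB u v
            rw [hUm.1 hu, hWm.1 hv, map_neg, LinearMap.neg_apply] at this
            exact mul_left_cancel₀ h2 (by linear_combination -this)
          exact ⟨w, hw, z, hz, h1, h1', h1'', hperp w hw, hperp z hz⟩
      have hhalf : ∀ v ∈ W, β v v = β u u → β u v = 0 →
          ∀ y, T ((rf β u * rf β v) y) = (rf β u * rf β v) (T y) := by
        intro v hv hvv huv y
        obtain ⟨k, hk, hke⟩ := exists_halfturn β hs h2 hrf ha hvv huv
        rw [← hke, ← hke]
        refine hTk k hk (fun x => ?_) y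
        rw [hke, hke, Equiv.Perm.mul_apply, Equiv.Perm.mul_apply, heig hu, heig (Or.inl hv)]
      exact line_of_comm β hs h2 T ha hww hzz huw huz hwz hneg (hhalf w hw hww huw) (hhalf z hz hzz huz)
    have hτ : ∀ a, τ a = a := sigma_eq_id β hs h2 hndW (by omega) T τ.toRingHom hadd hsmul hinj
      (fun u hu => hline u (Or.inl hu))
    refine ⟨hτ, fun x => ?_⟩
    let f2 : (ι → F) →ₗ[F] (ι → F) :=
      { toFun := fun x => T (T x) - μ • x
        map_add' := fun x y => by rw [hadd, hadd]; module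
        map_smul' := fun c x => by rw [hsmul, hτ, hsmul, hτ, RingHom.id_apply]; module }
    have hz : ∀ u, u ∈ W ∨ u ∈ U → β u u ≠ 0 → f2 u = 0 := by
      intro u hu ha
      obtain ⟨l, hl⟩ := hline u hu ha
      have hQu : Q u ≠ 0 := fun h => ha (by rw [hself, h, mul_zero])
      have h1 := hQT u
      rw [hl, quad_smul', hτ] at h1
      show T (T u) - μ • u = 0
      rw [hl, hsmul, hτ, hl, smul_smul, mul_right_cancel₀ hQu h1, sub_self]
    exact sub_eq_zero.1 (hlin f2 (fun u hu => hz u (Or.inl hu)) (fun u hu => hz u (Or.inr hu)) x)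

end CfsgLib.KnownC.AutPOmega.Balance
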