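import Cfsg.Agent.Lib.KnownC.AutPOmega.FieldMinus
import Cfsg.Agent.Lib.KnownC.AutPOmega.Balance.FieldGen
import Cfsg.Agent.S0297

/-!
# Automorphisms of the minus-type groups over a non-trivial field automorphism
-/

set_option autoImplicit false
set_option linter.unusedSectionVars false
set_option linter.style.haveILetI false

open Module QuadraticMap
open scoped Matrix

namespace CfsgLib.KnownC.AutPOmega.Balance

open CfsgLib.Orth CfsgLib.Classical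
open CfsgLib.KnownC.POmegaAut (IsSemiInduced exists_semi_conj)
open CfsgLib.KnownC.AutPSU.Balance (fixPts)

universe u v

/-- A similitude of forms gives an isomorphism of the projective groups. -/
theorem exists_transport_simil {F : Type u} [Field F] [Fintype F] {ι : Type} [Fintype ι] [DecidableEq ι]
    {Qf Qf' : (ι → F) → F} (e : GL ι F) {c : F} (hc : c ≠ 0)
    (he : ∀ v, Qf' ((e : Matrix ι ι F) *ᵥ v) = c * Qf v) :
    ∃ (E : ↥(Cfsg.Omega F Qf) ≃* ↥(Cfsg.Omega F Qf')) (ψ : Cfsg.POmega F Qf ≃* Cfsg.POmega F Qf'),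
      (∀ s, ((E s).1 : GL ι F) = e * (s.1 : GL ι F) * e⁻¹) ∧
        ∀ s, ψ (QuotientGroup.mk s) = QuotientGroup.mk (E s) := by
  have he' : ∀ v, Qf (((e⁻¹ : GL ι F) : Matrix ι ι F) *ᵥ v) = c⁻¹ * Qf' v := fun v => by
    have := he (((e⁻¹ : GL ι F) : Matrix ι ι F) *ᵥ v)
    rw [POmegaAut.mulVec_cancel] at this
    rw [this, inv_mul_cancel_left₀ hc]
  have hto : ∀ h : ↥(Cfsg.isometryGroup F Qf), e * h.1 * e⁻¹ ∈ Cfsg.isometryGroup F Qf' := fun h v _ => by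
    show Qf' (((e * h.1 * e⁻¹ : GL ι F) : Matrix ι ι F) *ᵥ v) = Qf' v
    have hh := h.2 (((e⁻¹ : GL ι F) : Matrix ι ι F) *ᵥ v) (((e⁻¹ : GL ι F) : Matrix ι ι F) *ᵥ v)
    change Qf ((h.1 : Matrix ι ι F) *ᵥ _) = Qf _ at hh
    rw [Units.val_mul, Units.val_mul, ← Matrix.mulVec_mulVec, ← Matrix.mulVec_mulVec, he, hh, he',
      mul_inv_cancel_left₀ hc]
  have hfrom : ∀ h : ↥(Cfsg.isometryGroup F Qf'), e⁻¹ * h.1 * e ∈ Cfsg.isometryGroup F Qf := fun h v _ => by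
    show Qf (((e⁻¹ * h.1 * e : GL ι F) : Matrix ι ι F) *ᵥ v) = Qf v
    have hh := h.2 ((e : Matrix ι ι F) *ᵥ v) ((e : Matrix ι ι F) *ᵥ v)
    change Qf' ((h.1 : Matrix ι ι F) *ᵥ _) = Qf' _ at hh
    rw [Units.val_mul, Units.val_mul, ← Matrix.mulVec_mulVec, ← Matrix.mulVec_mulVec, he', hh, he,
      inv_mul_cancel_left₀ hc]
  let E : ↥(Cfsg.isometryGroup F Qf) ≃* ↥(Cfsg.isometryGroup F Qf') :=
    { toFun := fun h => ⟨_, hto h⟩
      invFun := fun h => ⟨_, hfrom h⟩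
      left_inv := fun h => Subtype.ext (by show e⁻¹ * (e * h.1 * e⁻¹) * e = h.1; group)
      right_inv := fun h => Subtype.ext (by show e * (e⁻¹ * h.1 * e) * e⁻¹ = h.1; group)
      map_mul' := fun a b => Subtype.ext (by
        show e * (a.1 * b.1) * e⁻¹ = (e * a.1 * e⁻¹) * (e * b.1 * e⁻¹); group) }
  have hcom : (Cfsg.Omega F Qf).map E.toMonoidHom = Cfsg.Omega F Qf' := by
    show (⁅(⊤ : Subgroup ↥(Cfsg.isometryGroup F Qf)), (⊤ : Subgroup ↥(Cfsg.isometryGroup F Qf))⁆).map E.toMonoidHom =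
      ⁅(⊤ : Subgroup ↥(Cfsg.isometryGroup F Qf')), (⊤ : Subgroup ↥(Cfsg.isometryGroup F Qf'))⁆
    rw [Subgroup.map_commutator, Subgroup.map_top_of_surjective _ E.surjective]
  let E' : ↥(Cfsg.Omega F Qf) ≃* ↥(Cfsg.Omega F Qf') := (E.subgroupMap _).trans (MulEquiv.subgroupCongr hcom)
  have hc : (Subgroup.center ↥(Cfsg.Omega F Qf)).map E'.toMonoidHom = Subgroup.center ↥(Cfsg.Omega F Qf') := by
    ext x
    rw [Subgroup.mem_map_equiv, Subgroup.mem_center_iff, Subgroup.mem_center_iff]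
    refine ⟨fun h g => E'.symm.injective ?_, fun h g => E'.injective ?_⟩
    · rw [map_mul, map_mul]; exact h _
    · rw [map_mul, map_mul, E'.apply_symm_apply]; exact h _
  exact ⟨E', QuotientGroup.congr _ _ E' hc, fun s => rfl, fun s => rfl⟩

section Minus

variable {F : Type u} [Field F] [Fintype F] {k : ℕ} {a b : F}
  (hab : ∀ z₁ z₂ : F, z₁ ^ 2 + a * z₁ * z₂ + b * z₂ ^ 2 = 0 → z₁ = 0 ∧ z₂ = 0)
  {F₀ : Type v} [Field F₀] {emb : F₀ →+* F} {σ : F ≃+* F} {A : GL ((Fin k ⊕ Fin k) ⊕ Fin 2) F} {ζ₀ : F₀}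
  (D : Desc (minusForm F k a b) A σ emb (minusForm F₀ k 1 ζ₀) (minusForm F k 1 (emb ζ₀)))

include hab D in
/-- The binary part over the fixed field stays anisotropic. -/
theorem desc_no_root : ∀ t : F, t ^ 2 + t + emb ζ₀ ≠ 0 := by
  intro t ht
  let s : (Fin k ⊕ Unit → F) →ₗ[F] ((Fin k ⊕ Fin k) ⊕ Fin 2 → F) :=
    LinearMap.pi (Sum.elim (Sum.elim (fun i => LinearMap.proj (Sum.inl i)) (fun _ => 0))
      ![t • LinearMap.proj (Sum.inr ()), LinearMap.proj (Sum.inr ())])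
  have hs : Function.Injective s := fun x y h => by
    funext i
    rcases i with i | i
    · exact congrFun h (Sum.inl (Sum.inl i))
    · exact congrFun h (Sum.inr 1)
  have h := minus_singular_finrank_le hab ((LinearMap.range s).map (D.e : _ →ₗ[F] _)) (by
    rintro _ ⟨_, ⟨x, rfl⟩, rfl⟩
    show minusForm F k a b (D.e (s x)) = 0
    rw [D.hQ, ← minusForm_apply]
    have : Cfsg.quadFormMinus k F 1 (emb ζ₀) (s x) = 0 := by
      simp [Cfsg.quadFormMinus, s]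
      linear_combination (x (Sum.inr ()) ^ 2) * ht
    rw [this, mul_zero])
  rw [LinearEquiv.finrank_map_eq, LinearMap.finrank_range_of_inj hs, finrank_fintype_fun_eq_card] at h
  simp at h

include hab D in
/-- Such an automorphism is a field automorphism in the sense of the classes. -/
theorem class_of_desc (hσ : σ ≠ RingEquiv.refl F) (hfix : σ (emb ζ₀) = emb ζ₀)
    {x : MulAut (Cfsg.POmega F (Cfsg.quadFormMinus k F a b))}
    (hx : IsSemiInduced (Cfsg.quadFormMinus k F a b) A σ x) : Cfsg.IsFieldAutClassPOmegaMinus k x := by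
  let eD : GL ((Fin k ⊕ Fin k) ⊕ Fin 2) F :=
    Matrix.GeneralLinearGroup.toLin.symm ((LinearMap.GeneralLinearGroup.generalLinearEquiv F _).symm D.e)
  have heD : ∀ v, (eD : Matrix ((Fin k ⊕ Fin k) ⊕ Fin 2) ((Fin k ⊕ Fin k) ⊕ Fin 2) F) *ᵥ v = D.e v := fun v => by
    rw [show (eD : Matrix ((Fin k ⊕ Fin k) ⊕ Fin 2) ((Fin k ⊕ Fin k) ⊕ Fin 2) F) =
      LinearMap.toMatrix' (D.e : _ →ₗ[F] ((Fin k ⊕ Fin k) ⊕ Fin 2 → F)) from rfl, LinearMap.toMatrix'_mulVec]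
    rfl
  have hA : A * Matrix.GeneralLinearGroup.map σ.toRingHom eD = eD := by
    refine Units.ext (Matrix.ext_iff_mulVec.2 fun v => ?_)
    obtain ⟨w, rfl⟩ : ∃ w, ⇑σ ∘ w = v := ⟨⇑σ.symm ∘ v, funext fun i => σ.apply_symm_apply _⟩
    rw [Units.val_mul, ← Matrix.mulVec_mulVec, heD, ← D.hfix, ← heD w]
    congr 1
    exact POmegaAut.map_mulVec' σ _ _
  obtain ⟨E, ψ, hE, hψ⟩ := exists_transport_simil (Qf := Cfsg.quadFormMinus k F a b)
    (Qf' := Cfsg.quadFormMinus k F 1 (emb ζ₀)) eD⁻¹ (inv_ne_zero D.hz) (fun v => by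
      have h := D.hQ (((eD⁻¹ : GL ((Fin k ⊕ Fin k) ⊕ Fin 2) F) : Matrix _ _ F) *ᵥ v)
      rw [← heD, POmegaAut.mulVec_cancel, ← minusForm_apply, ← minusForm_apply] at h
      rw [h, inv_mul_cancel_left₀ D.hz])
  refine ⟨1, emb ζ₀, ψ, σ, anisotropic_of_no_root (desc_no_root hab D), hσ, map_one σ, hfix, fun t t' ht' => ?_⟩
  obtain ⟨s, rfl⟩ := E.surjective t
  obtain ⟨s', hs'⟩ := exists_semi_conj _ hx.1 s
  show ψ (x (ψ.symm (QuotientGroup.mk (E s)))) = QuotientGroup.mk t'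
  rw [← hψ, MulEquiv.symm_apply_apply, hx.2 s s' hs', hψ]
  congr 1
  refine Subtype.ext (Subtype.ext (Units.ext ?_))
  rw [hE, ht', hE]
  have hs'' : (s'.1 : GL ((Fin k ⊕ Fin k) ⊕ Fin 2) F) = A * Matrix.GeneralLinearGroup.map σ.toRingHom s.1 * A⁻¹ :=
    Units.ext hs'
  have hA' : A = eD * (Matrix.GeneralLinearGroup.map σ.toRingHom eD)⁻¹ := eq_mul_inv_iff_mul_eq.2 hA
  have key : eD⁻¹ * (s'.1 : GL ((Fin k ⊕ Fin k) ⊕ Fin 2) F) * eD⁻¹⁻¹ =
      Matrix.GeneralLinearGroup.map σ.toRingHom (eD⁻¹ * (s.1 : GL ((Fin k ⊕ Fin k) ⊕ Fin 2) F) * eD⁻¹⁻¹) := by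
    simp only [hs'', hA', map_mul, map_inv, inv_inv]
    group
  exact congrArg Units.val key

end Minus

/-- The criterion for automorphisms with a non-trivial field component. -/
theorem minus_field {F : Type u} [Field F] [Fintype F] {k : ℕ} (hk : 3 ≤ k) {a b : F}
    (hab : ∀ z₁ z₂ : F, z₁ ^ 2 + a * z₁ * z₂ + b * z₂ ^ 2 = 0 → z₁ = 0 ∧ z₂ = 0)
    [hQ : OCtx (minusForm F k a b)] {A : GL ((Fin k ⊕ Fin k) ⊕ Fin 2) F} {σ : F ≃+* F} (hne : σ ≠ RingEquiv.refl F)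
    {p : ℕ} [Fact p.Prime] {x : MulAut (Cfsg.POmega F (Cfsg.quadFormMinus k F a b))} (hord : orderOf x = p)
    (hA : IsSemiInduced (Cfsg.quadFormMinus k F a b) A σ x) :
    Cfsg.IsFieldAutClassPOmegaMinus k x ∧ fixPts x ≠ ⊥ ∧ (p ∣ Nat.card (fixPts x) →
      ∀ 𝒢 : Subgroup (MulAut (Cfsg.POmega F (Cfsg.quadFormMinus k F a b))), (∀ l, MulAut.conj l ∈ 𝒢) →
        Cfsg.pPrimeCore p ↥(𝒢 ⊓ Subgroup.centralizer {x}) = ⊥) := by
  have hp : p.Prime := Fact.out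
  have hσ : orderOf σ = p := orderOf_field (minusForm F k a b) (minusForm_apply k a b) hA hp hord hne
  let K := AutPSL.fixField σ
  letI : Fintype K := Fintype.ofFinite K
  have hι : ∀ y, σ y = y ↔ y ∈ Set.range K.subtype := fun y =>
    ⟨fun h => ⟨⟨y, h⟩, rfl⟩, by rintro ⟨z, rfl⟩; exact z.2⟩
  obtain ⟨ζ₀, hζ₀⟩ := exists_zeta K
  haveI := octx_minus (F := K) hk (anisotropic_of_no_root hζ₀)
  obtain ⟨A', hA', ⟨D⟩⟩ := minus_desc hab hA hσ hp.one_le (by rw [← hord, pow_orderOf_eq_one]) hι hζ₀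
  have hodd : Odd p := hp.eq_two_or_odd'.resolve_left fun h2 => by
    subst h2
    obtain ⟨c, hc⟩ := CharP.exists F
    obtain ⟨n, hcp, hcn⟩ := FiniteField.card F c
    haveI : Fact c.Prime := ⟨hcp⟩
    obtain ⟨hdvd, hK⟩ := AutPSL.card_fixField hcn σ hσ one_le_two
    have hsq : Fintype.card F = Fintype.card K ^ 2 := by
      rw [← Nat.card_eq_fintype_card (α := K), hK, ← pow_mul, Nat.div_mul_cancel hdvd, hcn]
    obtain ⟨t, ht⟩ := POmegaAut.minus_root (F := K) (K := F) (FieldExt.finrank_eq_two rfl hsq) 1 ζ₀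
      (anisotropic_of_no_root hζ₀)
    rw [map_one, one_mul] at ht
    exact desc_no_root hab D t ht
  have hsimp : IsSimpleGroup (Cfsg.POmega K (Cfsg.quadFormMinus k K 1 ζ₀)) :=
    Cfsg.Agent.S0297.result (k + 1) (by omega) 1 ζ₀ (anisotropic_of_no_root hζ₀)
  exact ⟨class_of_desc hab D hne ((hι _).2 ⟨ζ₀, rfl⟩) hA',
    balance_desc (minusForm_apply k a b) (minusForm_apply k 1 ζ₀) D hι hodd hσ hsimp hA'⟩

end CfsgLib.KnownC.AutPOmega.Balance
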