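import Cfsg.Agent.Lib.KnownC.AutPOmega.Balance.InvolExt
import Cfsg.Agent.Lib.KnownC.AutPOmega.Singular
import Mathlib.Algebra.QuadraticAlgebra.NormDeterminant

/-!
# Improper similitude classes of prime order of the minus-type groups
-/

set_option autoImplicit false
set_option linter.unusedSectionVars false
set_option linter.style.haveILetI false

open Module QuadraticMap
open scoped Matrix

namespace CfsgLib.KnownC.AutPOmega.Balance

open CfsgLib.Orth CfsgLib.Classical
open CfsgLib.KnownC.POmegaAut (GS Φ lin lin_apply lin_injective ofOrth lin_ofOrth exists_mult scalars scalars_le_ker det_lin)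
open CfsgLib.KnownC.ReflRigid (NdOn perpIn)

universe u

/-- The determinant of a map whose square is a non-square scalar. -/
theorem det_ext {F : Type u} [Field F] [Fintype F] {ι : Type} [Fintype ι] [DecidableEq ι] {n : ℕ}
    (hn : Fintype.card ι = 2 * n) {lam : F} (hns : ¬ IsSquare lam) (G : (ι → F) ≃ₗ[F] (ι → F))
    (hsq : ∀ v, G (G v) = lam • v) : LinearMap.det (G : (ι → F) →ₗ[F] (ι → F)) = (-lam) ^ n := by
  classical
  haveI : Fact (∀ r : F, r ^ 2 ≠ lam + 0 * r) := ⟨fun r hr => hns ⟨r, by linear_combination -hr⟩⟩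
  letI : Module (QuadraticAlgebra F lam 0) (ι → F) := extModule lam G hsq
  have hsm : ∀ (e : QuadraticAlgebra F lam 0) (v : ι → F), e • v = e.re • v + e.im • G v := fun e v => rfl
  haveI : IsScalarTower F (QuadraticAlgebra F lam 0) (ι → F) := ⟨fun r e v => by
    rw [hsm, hsm, QuadraticAlgebra.re_smul, QuadraticAlgebra.im_smul, smul_eq_mul, smul_eq_mul]
    module⟩
  haveI : FiniteDimensional (QuadraticAlgebra F lam 0) (ι → F) := Module.Finite.of_restrictScalars_finite F _ _
  have hrank : finrank (QuadraticAlgebra F lam 0) (ι → F) = n := by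
    have h := Module.finrank_mul_finrank F (QuadraticAlgebra F lam 0) (ι → F)
    rw [QuadraticAlgebra.finrank_eq_two, finrank_fintype_fun_eq_card, hn] at h
    omega
  let b := Module.finBasisOfFinrankEq (QuadraticAlgebra F lam 0) (ι → F) hrank
  let e : (ι → F) ≃ₗ[F] (Fin n → QuadraticAlgebra F lam 0) := b.equivFun.restrictScalars F
  rw [← LinearMap.det_conj (G : (ι → F) →ₗ[F] (ι → F)) e]
  rw [show e.toLinearMap ∘ₗ (G : (ι → F) →ₗ[F] (ι → F)) ∘ₗ e.symm.toLinearMap =
      LinearMap.pi (fun i => (DistribSMul.toLinearMap F (QuadraticAlgebra F lam 0)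
        (⟨0, 1⟩ : QuadraticAlgebra F lam 0)).comp (LinearMap.proj i)) from LinearMap.ext fun v => funext fun i => by
    show b.equivFun (G (b.equivFun.symm v)) i = (⟨0, 1⟩ : QuadraticAlgebra F lam 0) • v i
    rw [show ∀ y, G y = (⟨0, 1⟩ : QuadraticAlgebra F lam 0) • y from fun y => by rw [hsm]; simp, map_smul,
      LinearEquiv.apply_symm_apply, Pi.smul_apply], LinearMap.det_pi, QuadraticAlgebra.det_toLinearMap_eq_norm,
    Finset.prod_const, Finset.card_univ, Fintype.card_fin, QuadraticAlgebra.norm_def]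
  congr 1
  simp

variable {F : Type u} [Field F] [Fintype F] {k : ℕ} {a b : F}
  (hab : ∀ z₁ z₂ : F, z₁ ^ 2 + a * z₁ * z₂ + b * z₂ ^ 2 = 0 → z₁ = 0 ∧ z₂ = 0)

local notation "Qk" => Cfsg.quadFormMinus k F a b
local notation "Qm" => minusForm F k a b
local notation "ιk" => (Fin k ⊕ Fin k) ⊕ Fin 2

include hab in
/-- An improper involutory class has trivial odd core in its centraliser. -/
theorem minus_invol (hk : 3 ≤ k) [hQ : OCtx (minusForm F k a b)] (h2 : (2 : F) ≠ 0) (g : GS Qk)
    (hg : g ∉ properSub Qm (minusForm_apply k a b) (k + 1)) (hx : Φ Qk g * Φ Qk g = 1)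
    (𝒢 : Subgroup (MulAut (Cfsg.POmega F Qk))) (hinn : ∀ l, MulAut.conj l ∈ 𝒢) :
    Cfsg.pPrimeCore 2 ↥(𝒢 ⊓ Subgroup.centralizer {Φ Qk g}) = ⊥ := by
  classical
  have hn := card_minus_index k
  obtain ⟨lam, hlam⟩ := (phi_eq_one Qm (minusForm_apply k a b) (g * g)).1 (by rw [map_mul, hx])
  obtain ⟨μ, hμ0, hμ⟩ := exists_mult Qk Qm (minusForm_apply k a b) g
  have hsq : ∀ v, lin Qk g (lin Qk g v) = lam • v := fun v => by
    rw [← LinearEquiv.mul_apply, ← map_mul, lin_apply, hlam, Matrix.smul_mulVec, Matrix.one_mulVec]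
  obtain ⟨y₀, hy₀⟩ := exists_value_ne Qm
  have hμl : μ * μ = lam * lam := by
    have h := hμ (lin Qk g y₀)
    rw [hsq, hμ, quad_smul'] at h
    exact mul_right_cancel₀ hy₀ (by linear_combination -h)
  have hl0 : lam ≠ 0 := fun h => hμ0 (mul_self_eq_zero.1 (by rw [hμl, h, mul_zero]))
  -- rescaling
  have hscale : ∀ c : F, c ≠ 0 → ∃ g' : GS Qk, Φ Qk g' = Φ Qk g ∧
      g' ∉ properSub Qm (minusForm_apply k a b) (k + 1) ∧ (∀ v, lin Qk g' v = c • lin Qk g v) ∧
      (∀ v, lin Qk g' (lin Qk g' v) = (c * c * lam) • v) ∧ IsSimil Qm (lin Qk g') (c * c * μ) := by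
    intro c hc
    let z : GS Qk := ⟨sclM (Units.mk0 c hc), Units.mk0 c hc * Units.mk0 c hc, fun v => by
      rw [sclM_coe, Matrix.smul_mulVec, Matrix.one_mulVec, minusForm_apply, minusForm_apply, quad_smul']
      simp⟩
    have hz : Φ Qk z = 1 := MonoidHom.mem_ker.1 (scalars_le_ker Qk ⟨c, sclM_coe _⟩)
    have hlz : ∀ v, lin Qk (z * g) v = c • lin Qk g v := fun v => by
      rw [map_mul, LinearEquiv.mul_apply, lin_apply, sclM_coe, Matrix.smul_mulVec, Matrix.one_mulVec]
      rfl
    refine ⟨z * g, by rw [map_mul, hz, one_mul], fun h => hg ?_, hlz, fun v => ?_, fun v => ?_⟩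
    · have h' := mul_mem (inv_mem (ker_le_proper Qm (minusForm_apply k a b) hn (MonoidHom.mem_ker.2 hz))) h
      rwa [inv_mul_cancel_left] at h'
    · rw [hlz, hlz, map_smul, hsq, smul_smul, smul_smul]
    · rw [hlz, quad_smul', hμ]; ring
  by_cases hls : IsSquare lam
  · -- an involution
    obtain ⟨d, hd⟩ := hls
    have hd0 : d ≠ 0 := fun h => hl0 (by rw [hd, h, mul_zero])
    obtain ⟨g₁, hΦ₁, -, hlin₁, hsq₁, hsim₁⟩ := hscale d⁻¹ (inv_ne_zero hd0)
    have hone : d⁻¹ * d⁻¹ * lam = 1 := by rw [hd]; field_simp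
    rw [hone] at hsq₁
    set G₁ := lin Qk g₁
    let W₁ := LinearMap.ker (G₁.toLinearMap - LinearMap.id)
    let U₁ := LinearMap.ker (G₁.toLinearMap + LinearMap.id)
    have hsum : 2 * (k + 1) ≤ finrank F W₁ + finrank F U₁ := by
      have htop : (⊤ : Submodule F (ιk → F)) ≤ W₁ ⊔ U₁ := fun x _ =>
        Submodule.mem_sup.2 ⟨(2 : F)⁻¹ • (x + G₁ x), by
          simp [W₁, hsq₁]; module, (2 : F)⁻¹ • (x - G₁ x), by
          simp [U₁, hsq₁], by match_scalars <;> field_simp <;> ring⟩
      have h1 := Submodule.finrank_mono htop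
      rw [finrank_top, finrank_fintype_fun_eq_card, hn] at h1
      exact h1.trans (Submodule.finrank_add_le_finrank_add_finrank _ _)
    have hμ1 : d⁻¹ * d⁻¹ * μ = 1 := by
      have h1 : (d⁻¹ * d⁻¹ * μ) * (d⁻¹ * d⁻¹ * μ) = 1 := by
        rw [show (d⁻¹ * d⁻¹ * μ) * (d⁻¹ * d⁻¹ * μ) = d⁻¹ * d⁻¹ * (d⁻¹ * d⁻¹) * (μ * μ) by ring, hμl]
        linear_combination (d⁻¹ * d⁻¹ * lam + 1) * hone
      refine (mul_self_eq_one_iff.1 h1).resolve_right fun hm => ?_
      rw [hm] at hsim₁
      have hnull : ∀ S : Submodule F (ιk → F), (∀ v ∈ S, G₁ v = v ∨ G₁ v = -v) → finrank F S ≤ k := fun S hS =>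
        minus_singular_finrank_le hab S fun v hv => by
          have h3 := hsim₁ v
          rcases hS v hv with e | e <;> rw [e] at h3
          · exact mul_left_cancel₀ h2 (by linear_combination h3)
          · rw [QuadraticMap.map_neg] at h3
            exact mul_left_cancel₀ h2 (by linear_combination h3)
      have e1 := hnull W₁ fun v hv => Or.inl (by simpa [W₁, sub_eq_zero] using hv)
      have e2 := hnull U₁ fun v hv => Or.inr (by simpa [U₁, add_eq_zero_iff_eq_neg] using hv)
      omega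
    -- make the fixed space the large one
    obtain ⟨c, hc0, hc1, hcμ, hcW⟩ : ∃ c : F, c ≠ 0 ∧ c * c * lam = 1 ∧ c * c * μ = 1 ∧
        ∃ S : Submodule F (ιk → F), 4 ≤ finrank F S ∧ ∀ v ∈ S, c • lin Qk g v = v := by
      by_cases h4 : 4 ≤ finrank F W₁
      · exact ⟨d⁻¹, inv_ne_zero hd0, hone, hμ1, W₁, h4, fun v hv => by
          rw [← hlin₁]; simpa [W₁, sub_eq_zero] using hv⟩
      · exact ⟨-d⁻¹, neg_ne_zero.2 (inv_ne_zero hd0), by rw [neg_mul_neg, hone], by rw [neg_mul_neg, hμ1], U₁,
          by omega, fun v hv => by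
            rw [neg_smul, ← hlin₁, show G₁ v = -v by simpa [U₁, add_eq_zero_iff_eq_neg] using hv, neg_neg]⟩
    obtain ⟨S, hS4, hSfix⟩ := hcW
    obtain ⟨g', hΦ, hg', hlin', hsq', hsim'⟩ := hscale c hc0
    rw [hc1] at hsq'
    rw [hcμ] at hsim'
    set G := lin Qk g'
    set W := LinearMap.ker (G.toLinearMap - LinearMap.id)
    set U := LinearMap.ker (G.toLinearMap + LinearMap.id)
    rw [← hΦ]
    have hinv : ∀ v, G (G v) = v := fun v => by rw [hsq', one_smul]
    refine invol_split (minusForm_apply k a b) h2 g' hsim' hinv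
      (hS4.trans (Submodule.finrank_mono fun v hv => by
        show G v - v = 0
        rw [hlin', hSfix v hv, sub_self])) (fun hU2 => hg' ?_) 𝒢 hinn
    -- a product of two reflections is proper
    set B := QuadraticMap.polarBilin Qm
    have hs : ∀ x y, B x y = B y x := fun x y => polar_comm _ _ _
    have hGB : ∀ x y, B (G x) (G y) = B x y := fun x y => by
      have := hsim'.polar x y
      simpa [B] using this
    have hUm : ∀ {x}, x ∈ U ↔ G x = -x := fun {x} => by simp [U, add_eq_zero_iff_eq_neg]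
    have hnd : NdOn B U := fun x hx hx0 => by
      obtain ⟨y, hy⟩ : ∃ y, B x y ≠ 0 := by
        by_contra h
        push Not at h
        exact hx0 (hQ.nd.1 x h)
      refine ⟨y - G y, hUm.2 (by rw [map_sub, hinv]; abel), ?_⟩
      have h1 : B x (G y) = -B x y := by
        have := hGB x y
        rw [hUm.1 hx, map_neg, LinearMap.neg_apply] at this
        linear_combination -this
      rw [map_sub, h1, sub_neg_eq_add, ← two_mul]
      exact mul_ne_zero h2 hy
    have hU2' : finrank F U = 2 := hU2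
    obtain ⟨u, hu, hua⟩ := hnd.exists_aniso B hs h2 (by omega)
    have hP1 : 1 ≤ finrank F (perpIn B U u) := by
      have := ReflRigid.perp_finrank B hu hua
      omega
    obtain ⟨w, hw, hwa⟩ := (hnd.perp B hs hu hua).exists_aniso B hs h2 hP1
    have hP2 : finrank F (perpIn B U u) = 1 := by
      have hlt : perpIn B U u < U := lt_of_le_of_ne inf_le_left fun h => hua (h.ge hu).2
      have := Submodule.finrank_lt_finrank_of_lt hlt
      omega
    have hQu : Qm u ≠ 0 := fun h => hua (by show polar Qm u u = 0; rw [polar_self', h, mul_zero])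
    have hQw : Qm w ≠ 0 := fun h => hwa (by show polar Qm w w = 0; rw [polar_self', h, mul_zero])
    have key : ∀ v, G v = (refl Qm u).1 ((refl Qm w).1 v) := by
      intro v
      set v₁ := (2 : F)⁻¹ • (v + G v)
      set v₂ := (2 : F)⁻¹ • (v - G v)
      have hv : v = v₁ + v₂ := by simp only [v₁, v₂]; match_scalars <;> field_simp <;> ring
      have hv₁ : G v₁ = v₁ := by simp only [v₁, map_smul, map_add, hinv, add_comm]
      have hv₂ : v₂ ∈ U := hUm.2 (by simp only [v₂, map_smul, map_sub, hinv]; module)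
      have hperp : ∀ z ∈ U, polar Qm z v₁ = 0 := fun z hz => by
        have h3 := hGB z v₁
        rw [hUm.1 hz, hv₁, map_neg, LinearMap.neg_apply] at h3
        exact mul_left_cancel₀ h2 (show (2 : F) * B z v₁ = 2 * 0 by linear_combination -h3)
      set r := v₂ - ((B u u)⁻¹ * B u v₂) • u
      have hr : r ∈ perpIn B U u := ⟨U.sub_mem hv₂ (U.smul_mem _ hu), by
        simp [LinearMap.mem_ker, r]; field_simp; ring⟩
      have hw0 : (⟨w, hw⟩ : perpIn B U u) ≠ 0 := fun h => hwa (by rw [show w = 0 from congrArg Subtype.val h]; simp)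
      obtain ⟨q, hq⟩ := exists_smul_eq_of_finrank_eq_one hP2 hw0 ⟨r, hr⟩
      have hv2 : v₂ = ((B u u)⁻¹ * B u v₂) • u + q • w := by
        rw [show q • w = r from congrArg Subtype.val hq]
        simp only [r]; abel
      have huw : polar Qm u w = 0 := hw.2
      have eu : (refl Qm u).1 u = -u := by
        rw [refl_apply, polar_self']; match_scalars; field_simp; ring
      have ew : (refl Qm w).1 w = -w := by
        rw [refl_apply, polar_self']; match_scalars; field_simp; ring
      have euw : (refl Qm u).1 w = w := by simp [refl_apply, huw]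
      have ewu : (refl Qm w).1 u = u := by simp [refl_apply, polar_comm _ w u, huw]
      have e1 : ∀ z ∈ U, (refl Qm z).1 v₁ = v₁ := fun z hz => by simp [refl_apply, hperp z hz]
      conv_lhs => rw [hv, map_add, hv₁, hUm.1 hv₂]
      conv_rhs => rw [hv, map_add, e1 w hw.1, map_add, e1 u hu]
      rw [hv2]
      simp only [map_add, map_smul, ewu, ew, map_neg, eu, euw]
      module
    have : g' = ofOrth Qk Qm (minusForm_apply k a b) (([u, w] : List _).map (refl Qm)).prod :=
      lin_injective Qk (LinearEquiv.ext fun v => by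
        rw [lin_ofOrth]
        simp only [List.map_cons, List.map_nil, List.prod_cons, List.prod_nil, mul_one]
        exact key v)
    rw [this]
    exact (prod_refl_proper Qm (minusForm_apply k a b) hn [u, w] (by simp [hQu, hQw])).2 (by simp)
  · -- scale to a multiplier of two-power order
    obtain ⟨s, o, ho, hcard⟩ := Nat.exists_eq_two_pow_mul_odd (n := Fintype.card F - 1)
      (Nat.sub_ne_zero_of_lt Fintype.one_lt_card)
    obtain ⟨j, rfl⟩ := ho
    obtain ⟨g', hΦ, hg', -, hsq', hsim'⟩ := hscale (lam ^ j) (pow_ne_zero _ hl0)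
    have hns : ¬ IsSquare (lam ^ j * lam ^ j * lam) := fun ⟨r, hr⟩ => hls ⟨r / lam ^ j, by
      field_simp; linear_combination hr⟩
    have hpow : (lam ^ j * lam ^ j * lam) ^ 2 ^ s = 1 := by
      rw [show lam ^ j * lam ^ j * lam = lam ^ (2 * j + 1) by ring, ← pow_mul, mul_comm, ← hcard]
      exact FiniteField.pow_card_sub_one_eq_one lam hl0
    have hμ' : μ = lam := by
      refine (mul_self_eq_mul_self_iff.1 hμl).resolve_right fun hm => hg' ?_
      rw [mem_proper_odd Qm (minusForm_apply k a b) h2 g' hsim', ← det_lin, det_ext hn hns _ hsq']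
      congr 1
      rw [hm]; ring
    rw [hμ'] at hsim'
    rw [← hΦ]
    exact invol_ext (minusForm_apply k a b) h2 g' hns ⟨s, hpow⟩ hsim' hsq' (by rw [hn]; omega) 𝒢 hinn

end CfsgLib.KnownC.AutPOmega.Balance
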