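import Cfsg.Agent.Lib.KnownC.AutPOmega.Balance.OddFix
import Cfsg.Agent.S0295

/-!
# Local balance for field automorphisms of `Ω_{2m+1}(q)`
-/

set_option autoImplicit false
set_option linter.unusedSectionVars false
set_option linter.style.haveILetI false

namespace CfsgLib.KnownC.AutPOmega.Balance

open Matrix QuadraticMap CfsgLib.Orth CfsgLib.Classical
open CfsgLib.KnownC.POmegaAut (IsSemiInduced exists_semi_conj)
open CfsgLib.KnownC.AutPSU.Balance (fixPts conj_mem_centralizer core_bot core_ne_bot core_transport fixPts_conj)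

universe u

variable {F : Type u} [Field F] [Fintype F] {m : ℕ}

local notation "ιm" => Unit ⊕ (Fin m ⊕ Fin m)
local notation "Km" => Cfsg.POmega F (Cfsg.quadFormOdd m F)

theorem conj_hom_injective (h2 : (2 : F) ≠ 0) (hm : 3 ≤ m) :
    Function.Injective (MulAut.conj : Km →* MulAut Km) := by
  haveI := octx_odd (F := F) hm h2
  exact conj_injective (oddForm F m) (oddForm_apply m)

/-- An element fixed by the field automorphism comes from an isometry over the fixed field. -/
theorem exists_descend_iso (h2 : (2 : F) ≠ 0) (σ : F ≃+* F) (u : ↥(Cfsg.isometryGroup F (Cfsg.quadFormOdd m F)))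
    (hu : ((u : GL ιm F) : Matrix ιm ιm F).map σ = ((u : GL ιm F) : Matrix ιm ιm F)) :
    ∃ u₀, bcIso (AutPSL.fixField σ).subtype h2 u₀ = u := by
  set K := AutPSL.fixField σ
  have hu' : (((u : GL ιm F)⁻¹ : GL ιm F) : Matrix ιm ιm F).map σ = (((u : GL ιm F)⁻¹ : GL ιm F) : Matrix ιm ιm F) := by
    have e : Matrix.GeneralLinearGroup.map σ.toRingHom (u : GL ιm F) = (u : GL ιm F) := Units.ext hu
    exact congrArg Units.val (show Matrix.GeneralLinearGroup.map σ.toRingHom (u : GL ιm F)⁻¹ = (u : GL ιm F)⁻¹ by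
      rw [map_inv, e])
  let X : Matrix ιm ιm K := Matrix.of fun i j => ⟨_, congrFun (congrFun hu i) j⟩
  let Y : Matrix ιm ιm K := Matrix.of fun i j => ⟨_, congrFun (congrFun hu' i) j⟩
  have hinj := Matrix.map_injective (m := ιm) (n := ιm) K.subtype.injective
  have h1 : X * Y = 1 := hinj (by
    show (X * Y).map K.subtype = (1 : Matrix ιm ιm K).map K.subtype
    rw [Matrix.map_mul, Matrix.map_one _ (map_zero _) (map_one _)]
    exact Units.mul_inv (u : GL ιm F))
  have h1' : Y * X = 1 := hinj (by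
    show (Y * X).map K.subtype = (1 : Matrix ιm ιm K).map K.subtype
    rw [Matrix.map_mul, Matrix.map_one _ (map_zero _) (map_one _)]
    exact Units.inv_mul (u : GL ιm F))
  refine ⟨⟨⟨X, Y, h1, h1'⟩, fun w _ => ?_⟩, Subtype.ext (Units.ext rfl)⟩
  show Cfsg.quadFormOdd m K (X *ᵥ w) = Cfsg.quadFormOdd m K w
  apply K.subtype.injective
  rw [← form_emb, ← form_emb, ← mulVec_emb]
  have h := u.2 (fun i => K.subtype (w i)) (fun i => K.subtype (w i))
  exact h

theorem std_fix_iff (h2 : (2 : F) ≠ 0) (hm : 3 ≤ m) {σ : F ≃+* F} {φ : MulAut Km}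
    (hφ : IsSemiInduced (Cfsg.quadFormOdd m F) (1 : GL ιm F) σ φ) (s : ↥(Cfsg.Omega F (Cfsg.quadFormOdd m F))) :
    (QuotientGroup.mk s : Km) ∈ fixPts φ ↔ ((s.1 : GL ιm F) : Matrix ιm ιm F).map σ = ((s.1 : GL ιm F) : Matrix ιm ιm F) := by
  obtain ⟨s', hs'⟩ := exists_semi_conj _ hφ.1 s
  rw [Units.val_one, inv_one, Units.val_one, Matrix.one_mul, Matrix.mul_one] at hs'
  show φ (QuotientGroup.mk s) = QuotientGroup.mk s ↔ _
  rw [hφ.2 s s' (by rw [hs']; simp)]
  constructor
  · intro h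
    rw [mk_inj h2 hm h] at hs'
    exact hs'.symm
  · intro h
    exact mk_eq_of_mat (hs'.trans h)

/-- The group over the fixed field has an involution. -/
theorem exists_involution {K : Type u} [Field K] [Fintype K] (h2 : (2 : K) ≠ 0) (hm : 3 ≤ m) :
    ∃ s : ↥(Cfsg.Omega K (Cfsg.quadFormOdd m K)), orderOf s = 2 := by
  classical
  haveI hQ := octx_odd (F := K) hm h2
  set Q := oddForm K m
  set a : ιm → K := unitVec m
  set b : ιm → K := Pi.single (Sum.inr (Sum.inl ⟨0, by omega⟩)) 1 + Pi.single (Sum.inr (Sum.inr ⟨0, by omega⟩)) 1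
  have hQa : Q a = 1 := unitVec_value m
  have hQb : Q b = 1 := by
    show oddForm K m b = 1
    rw [← oddForm_apply]
    simp [Cfsg.quadFormOdd, b, Pi.single_apply]
  have hab : polar Q a b = 0 := by
    show polar (oddForm K m) a b = 0
    rw [oddForm_polar]
    simp [a, b, unitVec, Pi.single_apply]
  set g := refl Q a * refl Q b
  have hg : g ∈ commutator (orthGroup Q) := by
    refine (mem_commutator_odd hQ.nd h2 g).2 ⟨?_, ?_⟩
    · show LinearMap.det (((refl Q a).1 : (ιm → K) →ₗ[K] _) * ((refl Q b).1 : (ιm → K) →ₗ[K] _)) = 1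
      rw [map_mul, det_refl Q (by rw [hQa]; exact one_ne_zero), det_refl Q (by rw [hQb]; exact one_ne_zero)]
      ring
    · rw [map_mul, levelSign_refl Q h2 one_ne_zero (by rw [hQa]; exact one_ne_zero),
        levelSign_refl Q h2 one_ne_zero (by rw [hQb]; exact one_ne_zero), one_mul, hQa, hQb, if_pos IsSquare.one]
      simp
  have hgv : ∀ v, g.1 v = v - polar Q b v • b - polar Q a v • a := fun v => by
    show (refl Q a).1 ((refl Q b).1 v) = _
    rw [refl_apply, refl_apply, hQa, hQb, inv_one, one_mul, one_mul, sub_eq_add_neg v, ← neg_smul,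
      polar_add_right, polar_smul_r', hab]
    module
  have hgg : g * g = 1 := Subtype.ext (LinearEquiv.ext fun v => by
    show g.1 (g.1 v) = v
    rw [hgv, hgv]
    have hba : polar Q b a = 0 := by rw [polar_comm, hab]
    simp only [sub_eq_add_neg, ← neg_smul, polar_add_right, polar_smul_r', polar_self', hQa, hQb, hab, hba]
    module)
  have hg1 : g ≠ 1 := fun h => by
    have e := hgv a
    rw [h, polar_comm _ b a, hab, polar_self', hQa] at e
    have e' := congrFun e (Sum.inl ())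
    simp [a, unitVec, b] at e'
    exact h2 (by linear_combination e')
  refine ⟨(omegaEquiv Q (oddForm_apply m)).symm ⟨g, hg⟩, ?_⟩
  rw [MulEquiv.orderOf_eq]
  refine orderOf_eq_prime (Subtype.ext (by rw [pow_two]; exact hgg)) fun h => hg1 (congrArg Subtype.val h)

theorem balance_std (hodd : Odd (Fintype.card F)) (hm : 3 ≤ m) {p : ℕ} [Fact p.Prime] {σ : F ≃+* F}
    (hσ : orderOf σ = p) {φ : MulAut Km} (hφ : IsSemiInduced (Cfsg.quadFormOdd m F) (1 : GL ιm F) σ φ) :
    fixPts φ ≠ ⊥ ∧ (p ∣ Nat.card (fixPts φ) → ∀ 𝒢 : Subgroup (MulAut Km), (∀ k, MulAut.conj k ∈ 𝒢) →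
      Cfsg.pPrimeCore p ↥(𝒢 ⊓ Subgroup.centralizer {φ}) = ⊥) := by
  classical
  have h2 := two_ne hodd
  set K := AutPSL.fixField σ
  letI : Fintype K := Fintype.ofFinite _
  have hK2 : (2 : K) ≠ 0 := two_ne_source K.subtype h2
  let emb : ↥(Cfsg.Omega K (Cfsg.quadFormOdd m K)) →* fixPts φ :=
    ((QuotientGroup.mk' (Subgroup.center _)).comp (bcOm K.subtype h2)).codRestrict _ fun s₀ =>
      (std_fix_iff h2 hm hφ _).2 (Matrix.ext fun i j => (((s₀.1 : GL ιm K) : Matrix ιm ιm K) i j).2)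
  have hemb : Function.Injective emb := fun a b h =>
    bcOm_injective K.subtype h2 (mk_inj h2 hm (congrArg Subtype.val h))
  obtain ⟨t, ht⟩ := exists_involution hK2 hm
  have hne : fixPts φ ≠ ⊥ := fun h => by
    have h1 : emb t = 1 := Subtype.ext (Subgroup.mem_bot.1 (h.le (emb t).2))
    rw [← map_one emb] at h1
    rw [hemb h1, orderOf_one] at ht
    omega
  refine ⟨hne, fun hdiv 𝒢 hinn => ?_⟩
  -- the group over the fixed field is simple
  have hoddK : Odd (Fintype.card K) := by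
    refine Nat.odd_iff.2 (FiniteField.odd_card_of_char_ne_two fun hc => ?_)
    haveI : CharP K 2 := ringChar.of_eq hc
    exact hK2 CharTwo.two_eq_zero
  haveI hsimp : IsSimpleGroup ↥(Cfsg.Omega K (Cfsg.quadFormOdd m K)) := by
    haveI : IsSimpleGroup (Cfsg.POmega K (Cfsg.quadFormOdd m K)) := Cfsg.Agent.S0295.result hoddK m hm
    exact MulEquiv.isSimpleGroup
      ((QuotientGroup.quotientMulEquivOfEq (center_bot hK2 hm)).trans QuotientGroup.quotientBot).symm
  -- squares of fixed elements come from the group over the fixed field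
  have hlift : ∀ l : fixPts φ, ∃ (u₀ : ↥(Cfsg.isometryGroup K (Cfsg.quadFormOdd m K)))
      (u : ↥(Cfsg.Omega F (Cfsg.quadFormOdd m F))), (QuotientGroup.mk u : Km) = l.1 ∧ bcIso K.subtype h2 u₀ = u.1 := by
    intro l
    obtain ⟨u, hu⟩ := QuotientGroup.mk_surjective (l : Km)
    have hfix : (QuotientGroup.mk u : Km) ∈ fixPts φ := by rw [hu]; exact l.2
    obtain ⟨u₀, hu₀⟩ := exists_descend_iso h2 σ u.1 ((std_fix_iff h2 hm hφ u).1 hfix)
    exact ⟨u₀, u, hu, hu₀⟩
  have hsq : ∀ l : fixPts φ, l * l ∈ emb.range := by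
    intro l
    obtain ⟨u₀, u, hu, hu₀⟩ := hlift l
    haveI hQ := octx_odd (F := K) hm hK2
    have hmem : u₀ * u₀ ∈ Cfsg.Omega K (Cfsg.quadFormOdd m K) := by
      rw [mem_Omega_iff (oddForm K m) (oddForm_apply m), map_mul]
      exact sq_mem_commutator hQ.nd (good_of_two_ne hK2) _
    refine ⟨⟨_, hmem⟩, Subtype.ext ?_⟩
    show (QuotientGroup.mk (bcOm K.subtype h2 ⟨_, hmem⟩) : Km) = l.1 * l.1
    rw [← hu, ← QuotientGroup.mk_mul]
    congr 1
    refine Subtype.ext ?_
    show bcIso K.subtype h2 (u₀ * u₀) = u.1 * u.1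
    rw [map_mul, hu₀]
  have hconj : ∀ (l : fixPts φ) (s₀ : ↥(Cfsg.Omega K (Cfsg.quadFormOdd m K))), l * emb s₀ * l⁻¹ ∈ emb.range := by
    intro l s₀
    obtain ⟨u₀, u, hu, hu₀⟩ := hlift l
    refine ⟨⟨u₀ * s₀.1 * u₀⁻¹, Subgroup.Normal.conj_mem inferInstance _ s₀.2 u₀⟩, Subtype.ext ?_⟩
    show (QuotientGroup.mk (bcOm K.subtype h2 ⟨_, _⟩) : Km) =
      l.1 * QuotientGroup.mk (bcOm K.subtype h2 s₀) * l.1⁻¹
    rw [← hu, ← QuotientGroup.mk_inv, ← QuotientGroup.mk_mul, ← QuotientGroup.mk_mul]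
    congr 1
    refine Subtype.ext ?_
    show bcIso K.subtype h2 (u₀ * s₀.1 * u₀⁻¹) = u.1 * bcIso K.subtype h2 s₀.1 * u.1⁻¹
    rw [map_mul, map_mul, map_inv, hu₀]
  set D := Cfsg.pPrimeCore p (fixPts φ)
  haveI : D.Normal := Cfsg.pPrimeCore_normal p _
  have hDcop : (Nat.card D).Coprime p := CfsgLib.Solvable.Cores.coprime_card_pPrimeCore p
  -- an element of order `p` in the group over the fixed field
  obtain ⟨w, hw⟩ : ∃ w ∈ emb.range, orderOf w = p := by
    rcases (Fact.out : p.Prime).eq_two_or_odd' with hp2 | hpo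
    · exact ⟨emb t, ⟨t, rfl⟩, by rw [orderOf_injective emb hemb, ht, hp2]⟩
    · obtain ⟨l, hl⟩ := exists_prime_orderOf_dvd_card' p hdiv
      refine ⟨l * l, hsq l, ?_⟩
      rw [← pow_two, Nat.Coprime.orderOf_pow, hl]
      rw [hl]
      exact hpo.coprime_two_right
  have hbot : D.comap emb = ⊥ := by
    rcases (Subgroup.Normal.eq_bot_or_eq_top (H := D.comap emb) inferInstance) with h | h
    · exact h
    exfalso
    obtain ⟨⟨s, rfl⟩, hw2⟩ := hw
    have hmem : emb s ∈ D := h.ge (Subgroup.mem_top s)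
    have := Nat.eq_one_of_dvd_coprimes hDcop (Subgroup.orderOf_dvd_natCard D hmem) (by rw [hw2])
    rw [hw2] at this
    exact (Fact.out : p.Prime).one_lt.ne' this
  have hcent : ∀ (d : fixPts φ), d ∈ D → ∀ s₀, d * emb s₀ * d⁻¹ = emb s₀ := by
    intro d hd s₀
    obtain ⟨s₁, hs₁⟩ := hconj d s₀
    have hmem : s₁ * s₀⁻¹ ∈ D.comap emb := by
      rw [Subgroup.mem_comap, map_mul, map_inv, hs₁, mul_assoc, mul_assoc, ← mul_assoc (emb s₀)]
      exact mul_mem hd (Subgroup.Normal.conj_mem inferInstance _ (inv_mem hd) _)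
    rw [hbot, Subgroup.mem_bot, mul_inv_eq_one] at hmem
    rw [← hs₁, hmem]
  have hD : D = ⊥ := by
    rw [eq_bot_iff]
    intro d hd
    rw [Subgroup.mem_bot]
    refine Subtype.ext (conj_hom_injective h2 hm ?_)
    rw [show ((1 : fixPts φ) : Km) = 1 from rfl, map_one]
    refine eq_one_of_fix hm h2 σ hσ _ ?_ fun s₀ => congrArg Subtype.val (hcent d hd s₀)
    rw [orderOf_injective _ (conj_hom_injective h2 hm), Subgroup.orderOf_coe]
    exact hDcop.coprime_dvd_left (Subgroup.orderOf_dvd_natCard D hd)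
  exact core_bot (conj_hom_injective h2 hm) φ 𝒢 hinn hD fun n _ hn hfix =>
    eq_one_of_fix hm h2 σ hσ n hn fun s₀ => hfix _ (emb s₀).2

/-- The criterion. -/
theorem balance (hodd : Odd (Fintype.card F)) (hm : 3 ≤ m) (A : Subgroup (MulAut Km))
    (hinn : ∀ k : Km, MulAut.conj k ∈ A) {p : ℕ} [Fact p.Prime] (x : MulAut Km) (hord : orderOf x = p)
    (hnot : ¬ Cfsg.IsInnerDiagonalAutPOmegaOdd m x) :
    Cfsg.pPrimeCore p ↥(A ⊓ Subgroup.centralizer {x}) ≠ ⊥ ↔
      (Cfsg.IsFieldAutClassPOmega (Cfsg.quadFormOdd m F) x ∧ Nat.Coprime p (Nat.card (fixPts x))) := by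
  have h2 := two_ne hodd
  obtain ⟨σ, α, φ, hσ, hφ, hconj⟩ := field_class hodd hm x hord hnot
  have hclass : Cfsg.IsFieldAutClassPOmega (Cfsg.quadFormOdd m F) x :=
    ⟨α, φ, σ, fun h => (Fact.out : p.Prime).one_lt.ne' (by rw [← hσ, h]; exact orderOf_one),
      (induced_std_iff σ φ).1 hφ.2, hconj⟩
  obtain ⟨hne, hbot⟩ := balance_std hodd hm hσ hφ
  have hfixc : fixPts φ = (fixPts x).map α.toMonoidHom := hconj ▸ fixPts_conj x α
  have hcard : Nat.card (fixPts φ) = Nat.card (fixPts x) := by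
    rw [hfixc]; exact Subgroup.card_map_of_injective α.injective
  constructor
  · intro h
    refine ⟨hclass, ((Fact.out : p.Prime).coprime_iff_not_dvd).2 fun hdiv => h ?_⟩
    refine core_transport p x α A ?_
    rw [hconj]
    exact hbot (hcard ▸ hdiv) _ fun k => ⟨MulAut.conj (α⁻¹ k), hinn _, by
      show α * MulAut.conj (α⁻¹ k) * α⁻¹ = _
      rw [AutPSU.Balance.conj_apply_aut]
      simp⟩
  · rintro ⟨-, hc⟩
    refine core_ne_bot (conj_hom_injective h2 hm) x A hinn (fun h => hne ?_) hc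
    rw [hfixc, h, Subgroup.map_bot]

end CfsgLib.KnownC.AutPOmega.Balance
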