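import Cfsg.Agent.Lib.KnownC.AutPOmega.OddOut
import Cfsg.Agent.Lib.KnownC.AutPSL.Conj
import Cfsg.Agent.Lib.KnownC.AutPSL.FieldClass
import Cfsg.Agent.Lib.KnownC.GraphForms.Classify

/-!
# Outer automorphisms of prime order of `Ω_{2m+1}(q)` are field automorphisms
-/

set_option autoImplicit false
set_option linter.unusedSectionVars false

namespace CfsgLib.KnownC.AutPOmega.Balance

open Matrix CfsgLib.Orth
open CfsgLib.KnownC.POmegaAut (IsSemiInduced semi_mul)
open CfsgLib.KnownC.GraphForms (Modd Modd_transpose Modd_det similar_of_odd pgo_odd Sim mem_Sim)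

universe u

variable {F : Type u} [Field F] {m : ℕ}

local notation "ιm" => Unit ⊕ (Fin m ⊕ Fin m)

theorem Modd_map {K : Type*} [Field K] (f : K →+* F) : (Modd m K).map f = Modd m F := by
  ext (i | i | i) (j | j | j) <;>
    simp [Modd, CfsgLib.KnownC.GraphForms.Mplus, Matrix.one_apply, apply_ite f, map_ofNat]

variable (F m) in
/-- The matrices of size `2m + 1` indexed by an initial segment of `ℕ`. -/
noncomputable def reGL : GL ιm F ≃* GL (Fin (Fintype.card ιm)) F :=
  Units.mapEquiv (Matrix.reindexAlgEquiv F F (Fintype.equivFin ιm)).toMulEquiv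

theorem reGL_map (σ : F ≃+* F) (g : GL ιm F) :
    reGL F m (Matrix.GeneralLinearGroup.map σ.toRingHom g) =
      Matrix.GeneralLinearGroup.map σ.toRingHom (reGL F m g) :=
  Units.ext (Matrix.ext fun _ _ => rfl)

theorem reGL_scalar (c : F) (g : GL ιm F) (hg : (g : Matrix ιm ιm F) = c • 1) :
    (reGL F m g).val = c • 1 := by
  show Matrix.reindexAlgEquiv F F (Fintype.equivFin ιm) (g : Matrix ιm ιm F) = _
  rw [hg, map_smul, map_one]

variable [Fintype F]

theorem two_ne (hodd : Odd (Fintype.card F)) : (2 : F) ≠ 0 :=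
  CfsgLib.KnownC.OrthTools.two_ne_zero_of_odd rfl hodd

theorem semi_pow (g : GL ιm F) (σ : F ≃+* F) (x : MulAut (Cfsg.POmega F (Cfsg.quadFormOdd m F)))
    (hx : IsSemiInduced (Cfsg.quadFormOdd m F) g σ x) (k : ℕ) :
    ∃ G : GL ιm F, reGL F m G = AutPSL.semiPow (reGL F m g) σ k ∧
      IsSemiInduced (Cfsg.quadFormOdd m F) G (σ ^ k) (x ^ k) := by
  induction k with
  | zero => exact ⟨1, map_one _, by rw [pow_zero, pow_zero]; exact one_induced⟩
  | succ k ih =>
    obtain ⟨G, hG, hG'⟩ := ih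
    refine ⟨g * Matrix.GeneralLinearGroup.map σ.toRingHom G, ?_, ?_⟩
    · rw [map_mul, reGL_map, hG]; rfl
    · rw [pow_succ', pow_succ']; exact semi_mul _ hx hG'

/-- An automorphism inducing the identity on the field is inner-diagonal. -/
theorem field_ne_one {g : GL ιm F} {σ : F ≃+* F} {x : MulAut (Cfsg.POmega F (Cfsg.quadFormOdd m F))}
    (hx : IsSemiInduced (Cfsg.quadFormOdd m F) g σ x) (hnot : ¬ Cfsg.IsInnerDiagonalAutPOmegaOdd m x) :
    σ ≠ RingEquiv.refl F := by
  rintro rfl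
  obtain ⟨c, hc⟩ := hx.1
  exact hnot ⟨g, ⟨c, fun v => hc v⟩, hx.2⟩

/-- An automorphism of prime order outside the inner-diagonal group is a field automorphism. -/
theorem field_class (hodd : Odd (Fintype.card F)) (hm : 3 ≤ m) {p : ℕ} [Fact p.Prime]
    (x : MulAut (Cfsg.POmega F (Cfsg.quadFormOdd m F))) (hord : orderOf x = p)
    (hnot : ¬ Cfsg.IsInnerDiagonalAutPOmegaOdd m x) :
    ∃ (σ : F ≃+* F) (α φ : MulAut (Cfsg.POmega F (Cfsg.quadFormOdd m F))), orderOf σ = p ∧
      IsSemiInduced (Cfsg.quadFormOdd m F) (1 : GL ιm F) σ φ ∧ α * x * α⁻¹ = φ := by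
  have h2 := two_ne hodd
  haveI := octx_odd (F := F) hm h2
  have hp : 1 ≤ p := (Fact.out : p.Prime).one_le
  obtain ⟨g, σ, hg0, hg1⟩ := exists_semi (oddForm F m) (oddForm_apply m) x
  have hg : IsSemiInduced (Cfsg.quadFormOdd m F) g σ x := ⟨hg0, hg1⟩
  obtain ⟨G, hG, hG'⟩ := semi_pow g σ x hg p
  rw [← hord, pow_orderOf_eq_one, hord] at hG'
  obtain ⟨hσp, l, hl⟩ := scalar_of_induced_one (oddForm F m) (oddForm_apply m) hG'.1 hG'.2
  have hσ : orderOf σ = p := orderOf_eq_prime hσp (field_ne_one hg hnot)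
  have hn : 1 ≤ Fintype.card ιm := Fintype.card_pos
  have hl0 : l ≠ 0 := fun h0 => G.det_ne_zero (by rw [hl, h0, zero_smul, Matrix.det_zero])
  have hGp : AutPSL.semiPow (reGL F m g) σ p = AutPSL.scl (Units.mk0 l hl0) := by
    rw [← hG]
    exact Units.ext (by rw [reGL_scalar l G hl, AutPSL.scl_coe, Units.val_mk0])
  have hfix : σ l = l := by
    have h1 := AutPSL.semiPow_succ' (reGL F m g) σ p
    rw [AutPSL.semiPow, hGp, AutPSL.map_scl, show σ ^ p = RingEquiv.refl F from hσp, AutPSL.map_refl_eq,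
      ← AutPSL.scl_comm] at h1
    exact congrArg Units.val (AutPSL.scl_injective hn (mul_right_cancel h1))
  obtain ⟨u, hu⟩ := AutPSL.exists_nrm σ hσ hp l⁻¹ (by rw [map_inv₀, hfix])
  have hu0 : u ≠ 0 := fun h0 => inv_ne_zero hl0 (by
    obtain ⟨k, rfl⟩ : ∃ k, p = k + 1 := ⟨p - 1, by omega⟩
    rw [← hu, h0]; simp [AutPSL.nrm])
  obtain ⟨H₁, hH₁⟩ := AutPSL.exists_descent (AutPSL.scl (Units.mk0 u hu0) * reGL F m g) σ hσ hp (by
    rw [AutPSL.semiPow_scl_mul _ _ σ p (Units.mk0 l hl0)⁻¹ (by simp [hu]), hGp, ← AutPSL.scl_mul, inv_mul_cancel,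
      AutPSL.scl_one])
  set g' : GL ιm F := (reGL F m).symm (AutPSL.scl (Units.mk0 u hu0)) * g with hg'
  set H : GL ιm F := (reGL F m).symm H₁ with hH
  have hgH : g' * Matrix.GeneralLinearGroup.map σ.toRingHom H = H := (reGL F m).injective (by
    rw [map_mul, map_mul, reGL_map, MulEquiv.apply_symm_apply, MulEquiv.apply_symm_apply, hH₁])
  have hscal : (((reGL F m).symm (AutPSL.scl (Units.mk0 u hu0)) : GL ιm F) : Matrix ιm ιm F) = u • 1 := by
    show (Matrix.reindexAlgEquiv F F (Fintype.equivFin ιm)).symm _ = _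
    rw [AutPSL.scl_coe, map_smul, map_one, Units.val_mk0]
  have hg's : IsSemiInduced (Cfsg.quadFormOdd m F) g' σ x := by
    have hs : IsSemiInduced (Cfsg.quadFormOdd m F) ((reGL F m).symm (AutPSL.scl (Units.mk0 u hu0)))
        (RingEquiv.refl F) 1 := by
      refine ⟨⟨Units.mk0 (u * u) (mul_ne_zero hu0 hu0), fun v => ?_⟩, fun s s' hs' => ?_⟩
      · rw [hscal, Matrix.smul_mulVec, Matrix.one_mulVec, oddForm_apply, oddForm_apply]
        exact quad_smul' (Q := oddForm F m) _ _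
      · refine mk_eq_of_mat ?_
        rw [hs', hscal]
        have hinv : (((reGL F m).symm (AutPSL.scl (Units.mk0 u hu0)))⁻¹ : GL ιm F).val = u⁻¹ • 1 := by
          refine left_inv_eq_right_inv (Units.inv_mul ((reGL F m).symm (AutPSL.scl (Units.mk0 u hu0)))) ?_
          rw [hscal, Matrix.smul_mul, Matrix.one_mul, smul_smul, mul_inv_cancel₀ hu0, one_smul]
        rw [hinv, Matrix.smul_mul, Matrix.one_mul, Matrix.smul_mul, Matrix.mul_smul, Matrix.mul_one, smul_smul,
          mul_inv_cancel₀ hu0, one_smul]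
        exact Matrix.ext fun _ _ => rfl
    have h := semi_mul _ hs hg
    rw [one_mul, show Matrix.GeneralLinearGroup.map (RingEquiv.refl F).toRingHom g = g from
      Units.ext (Matrix.ext fun _ _ => rfl)] at h
    exact h
  have hgSim : g' ∈ Sim (Modd m F) := by
    rw [← pgo_odd h2]
    obtain ⟨c, hc⟩ := hg's.1
    refine ⟨c, fun v => ?_⟩
    have := hc (fun i => σ.symm (v i))
    rw [← odd_std m σ] at this
    simpa using this
  obtain ⟨μ, hμ⟩ := mem_Sim.1 hgSim
  set M := Modd m F with hM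
  set N : Matrix ιm ιm F := (H : Matrix ιm ιm F)ᵀ * M * (H : Matrix ιm ιm F) with hN
  have hHmat : (g' : Matrix ιm ιm F) * (H : Matrix ιm ιm F).map σ = (H : Matrix ιm ιm F) := congrArg Units.val hgH
  have hNσ : N = (μ : F) • N.map σ := by
    conv_lhs => rw [hN, ← hHmat]
    rw [Matrix.transpose_mul, show ((H : Matrix ιm ιm F).map σ)ᵀ * (g' : Matrix ιm ιm F)ᵀ * M *
        ((g' : Matrix ιm ιm F) * (H : Matrix ιm ιm F).map σ) = ((H : Matrix ιm ιm F).map σ)ᵀ *
        ((g' : Matrix ιm ιm F)ᵀ * M * (g' : Matrix ιm ιm F)) * (H : Matrix ιm ιm F).map σ by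
      simp only [Matrix.mul_assoc], hμ, Matrix.mul_smul, Matrix.smul_mul]
    congr 1
    rw [hN, Matrix.map_mul, Matrix.map_mul, Matrix.transpose_map]
    congr 2
    exact (Modd_map σ.toRingHom).symm
  have hNdet : N.det ≠ 0 := by
    rw [hN, Matrix.det_mul, Matrix.det_mul, Matrix.det_transpose]
    exact mul_ne_zero (mul_ne_zero H.det_ne_zero (Modd_det h2 m)) H.det_ne_zero
  obtain ⟨a, b, hab⟩ : ∃ a b, N a b ≠ 0 := by
    by_contra hcon
    push Not at hcon
    exact hNdet (by rw [show N = 0 from Matrix.ext hcon, Matrix.det_zero])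
  set z := N a b
  have hNe : ∀ i j, N i j = (μ : F) * σ (N i j) := fun i j => by
    conv_lhs => rw [hNσ]
    rfl
  set K := AutPSL.fixField σ
  have hK : ∀ i j, N i j / z ∈ K := fun i j => by
    rw [AutPSL.mem_fixField, map_div₀]
    conv_rhs => rw [hNe i j, show z = (μ : F) * σ z from hNe a b]
    rw [mul_div_mul_left _ _ μ.ne_zero]
  let N₀ : Matrix ιm ιm K := Matrix.of fun i j => ⟨_, hK i j⟩
  have hN₀ : N₀.map K.subtype = z⁻¹ • N := Matrix.ext fun i j => by
    show N i j / z = z⁻¹ * N i j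
    rw [div_eq_inv_mul]
  have hinj := Matrix.map_injective (m := ιm) (n := ιm) (K.subtype.injective)
  have hN₀t : N₀ᵀ = N₀ := hinj (by
    show N₀ᵀ.map K.subtype = N₀.map K.subtype
    rw [Matrix.transpose_map, hN₀, Matrix.transpose_smul, hN, Matrix.transpose_mul, Matrix.transpose_mul,
      Matrix.transpose_transpose, Modd_transpose, Matrix.mul_assoc])
  have hN₀d : N₀.det ≠ 0 := fun h0 => by
    have e := (RingHom.map_det K.subtype N₀).symm
    rw [h0, map_zero, RingHom.mapMatrix_apply, hN₀, Matrix.det_smul] at e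
    exact mul_ne_zero (pow_ne_zero _ (inv_ne_zero hab)) hNdet e
  have hK2 : (2 : K) ≠ 0 := fun h0 => h2 (by
    have := congrArg K.subtype h0
    rwa [map_ofNat, map_zero] at this)
  obtain ⟨P, c, hP⟩ := (similar_of_odd hK2 hN₀t (Modd_transpose m) rfl hN₀d (Modd_det hK2 m)
    (by simp [parity_simps])).exists_gl
  set P' : GL ιm F := Matrix.GeneralLinearGroup.map K.subtype P
  have hP' : (P' : Matrix ιm ιm F)ᵀ * N * (P' : Matrix ιm ιm F) = (z * c : F) • M := by
    have e := congrArg (fun X : Matrix ιm ιm K => X.map K.subtype) hP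
    simp only [Matrix.map_mul] at e
    rw [Matrix.transpose_map, hN₀, Matrix.mul_smul, Matrix.smul_mul] at e
    have e2 := congrArg (fun X : Matrix ιm ιm F => z • X) e
    simp only [smul_smul, mul_inv_cancel₀ hab, one_smul] at e2
    rw [show (((c : K) • Modd m K).map K.subtype) = ((c : K) : F) • M from by
      rw [hM, ← Modd_map (m := m) K.subtype]; exact Matrix.ext fun i j => map_mul K.subtype _ _, smul_smul] at e2
    exact e2
  set B : GL ιm F := H * P'
  have hBσ : g' * Matrix.GeneralLinearGroup.map σ.toRingHom B = B := by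
    rw [map_mul, ← mul_assoc, hgH]
    congr 1
    exact Units.ext (Matrix.ext fun i j => ((P : Matrix ιm ιm K) i j).2)
  have hBsim : B ∈ Cfsg.Geo.quadSimilarityGroup (F := F) (Cfsg.quadFormOdd m F) := by
    rw [pgo_odd h2, mem_Sim]
    refine ⟨Units.mk0 (z * c) (mul_ne_zero hab (fun h0 => c.ne_zero (Subtype.ext h0))), ?_⟩
    rw [Units.val_mk0, ← hP']
    show ((H : Matrix ιm ιm F) * (P' : Matrix ιm ιm F))ᵀ * M * ((H : Matrix ιm ιm F) * (P' : Matrix ιm ιm F)) = _
    rw [hN, Matrix.transpose_mul]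
    simp only [Matrix.mul_assoc]
  obtain ⟨cB, hcB⟩ := hBsim
  obtain ⟨β, hβ⟩ := exists_induced (Qf := Cfsg.quadFormOdd m F) (g := B) (σ := RingEquiv.refl F)
    ⟨cB, fun v => hcB v⟩
  obtain ⟨φ, hφ⟩ := exists_induced (std_pair (Qf := Cfsg.quadFormOdd m F) (odd_std m σ))
  refine ⟨σ, β⁻¹, φ, hσ, hφ, ?_⟩
  have h3 := semi_mul _ hg's hβ
  have h4 := semi_mul _ hβ hφ
  rw [hBσ] at h3
  rw [map_one, mul_one] at h4
  have e : x * β = β * φ := induced_unique
    (by rwa [show (RingEquiv.refl F).trans σ = σ from RingEquiv.ext fun _ => rfl] at h3)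
    (by rwa [show σ.trans (RingEquiv.refl F) = σ from RingEquiv.ext fun _ => rfl] at h4)
  rw [inv_inv, mul_assoc, e, inv_mul_cancel_left]

end CfsgLib.KnownC.AutPOmega.Balance
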