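import Cfsg.Agent.Lib.KnownC.AutPOmega.Balance.OddDescent
import Cfsg.Agent.Lib.KnownC.AutPSU.Balance.Common

/-!
# The group over the fixed field, and automorphisms centralising it
-/

set_option autoImplicit false
set_option linter.unusedSectionVars false
set_option linter.style.haveILetI false

namespace CfsgLib.KnownC.AutPOmega.Balance

open Matrix QuadraticMap CfsgLib.Orth CfsgLib.Classical
open CfsgLib.KnownC.POmegaAut (IsSemiInduced exists_semi_conj)
open CfsgLib.KnownC.GraphForms (Modd pgo_odd mem_Sim)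

universe u

variable {F : Type u} [Field F] {m : ℕ}

local notation "ιm" => Unit ⊕ (Fin m ⊕ Fin m)

section BaseChange

variable {K : Type u} [Field K] (f : K →+* F)

theorem form_emb (w : ιm → K) :
    Cfsg.quadFormOdd m F (fun i => f (w i)) = f (Cfsg.quadFormOdd m K w) := by
  simp [Cfsg.quadFormOdd, map_sum]

theorem polar_emb (v w : ιm → K) :
    polar (oddForm F m) (fun i => f (v i)) (fun i => f (w i)) = f (polar (oddForm K m) v w) := by
  simp only [polar, ← oddForm_apply, map_sub, ← form_emb]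
  congr 3
  funext i
  simp

theorem quad_emb (w : ιm → K) : oddForm F m (fun i => f (w i)) = f (oddForm K m w) := by
  rw [← oddForm_apply, ← oddForm_apply, form_emb]

theorem mulVec_emb (g : Matrix ιm ιm K) (w : ιm → K) :
    g.map f *ᵥ (fun i => f (w i)) = fun i => f ((g *ᵥ w) i) := by
  funext i
  simp [Matrix.mulVec, dotProduct, map_sum]

theorem two_ne_source {K : Type u} [Field K] (f : K →+* F) (h2 : (2 : F) ≠ 0) : (2 : K) ≠ 0 := fun h => h2 (by
  have := congrArg f h
  rwa [map_ofNat, map_zero] at this)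

theorem bc_mem (h2 : (2 : F) ≠ 0) (g : ↥(Cfsg.isometryGroup K (Cfsg.quadFormOdd m K))) :
    Matrix.GeneralLinearGroup.map f (g : GL ιm K) ∈ Cfsg.isometryGroup F (Cfsg.quadFormOdd m F) := by
  have hg : (g : GL ιm K) ∈ CfsgLib.KnownC.GraphForms.Sim (Modd m K) := by
    rw [← pgo_odd (two_ne_source f h2)]
    exact POmegaAut.isometry_le_GS _ g.2
  obtain ⟨c, hc⟩ := mem_Sim.1 hg
  have hF : Matrix.GeneralLinearGroup.map f (g : GL ιm K) ∈ CfsgLib.KnownC.GraphForms.Sim (Modd m F) := by
    refine mem_Sim.2 ⟨Units.map f.toMonoidHom c, ?_⟩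
    have e := congrArg (fun X : Matrix ιm ιm K => X.map f) hc
    simp only [Matrix.map_mul] at e
    rw [Matrix.transpose_map, Modd_map] at e
    refine Eq.trans e ?_
    rw [← Modd_map (m := m) f]
    exact Matrix.ext fun i j => map_mul f _ _
  rw [← pgo_odd h2] at hF
  obtain ⟨d, hd⟩ := hF
  have hd1 : (d : F) = 1 := by
    have hu : Cfsg.quadFormOdd m F (unitVec m) = 1 := by simp [Cfsg.quadFormOdd, unitVec]
    have e : (fun i => f ((unitVec m : ιm → K) i)) = (unitVec m : ιm → F) := by
      funext i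
      simp [unitVec, Pi.single_apply, apply_ite f]
    have h1 := hd (unitVec m)
    rw [hu, mul_one] at h1
    rw [← h1, ← e]
    show Cfsg.quadFormOdd m F (((g : GL ιm K) : Matrix ιm ιm K).map f *ᵥ _) = 1
    rw [mulVec_emb, form_emb]
    have h2' := g.2 (unitVec m) (unitVec m)
    change Cfsg.quadFormOdd m K (((g : GL ιm K) : Matrix ιm ιm K) *ᵥ unitVec m) = _ at h2'
    rw [h2']
    show f (Cfsg.quadFormOdd m K (unitVec m)) = 1
    rw [show Cfsg.quadFormOdd m K (unitVec m) = 1 by simp [Cfsg.quadFormOdd, unitVec], map_one]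
  intro u _
  show Cfsg.quadFormOdd m F ((Matrix.GeneralLinearGroup.map f (g : GL ιm K)).val *ᵥ u) = Cfsg.quadFormOdd m F u
  rw [hd, hd1, one_mul]

/-- Base change of isometries. -/
def bcIso (h2 : (2 : F) ≠ 0) :
    ↥(Cfsg.isometryGroup K (Cfsg.quadFormOdd m K)) →* ↥(Cfsg.isometryGroup F (Cfsg.quadFormOdd m F)) :=
  ((Matrix.GeneralLinearGroup.map f).comp (Subgroup.subtype _)).codRestrict _ (bc_mem f h2)

/-- Base change on `Ω`. -/
def bcOm (h2 : (2 : F) ≠ 0) :
    ↥(Cfsg.Omega K (Cfsg.quadFormOdd m K)) →* ↥(Cfsg.Omega F (Cfsg.quadFormOdd m F)) :=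
  ((bcIso f h2).comp (Subgroup.subtype _)).codRestrict _ fun x => by
    have hle : (commutator ↥(Cfsg.isometryGroup K (Cfsg.quadFormOdd m K))).map (bcIso f h2) ≤
        commutator ↥(Cfsg.isometryGroup F (Cfsg.quadFormOdd m F)) := by
      rw [commutator_def, commutator_def, Subgroup.map_commutator]
      exact Subgroup.commutator_mono le_top le_top
    exact hle (Subgroup.mem_map_of_mem _ x.2)

theorem bcOm_mat (h2 : (2 : F) ≠ 0) (s : ↥(Cfsg.Omega K (Cfsg.quadFormOdd m K))) :
    ((bcOm f h2 s).1 : GL ιm F).val = ((s.1 : GL ιm K) : Matrix ιm ιm K).map f := rfl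

theorem bcOm_injective (h2 : (2 : F) ≠ 0) : Function.Injective (bcOm (m := m) f h2) := fun a b h =>
  Subtype.ext (Subtype.ext (Units.ext (Matrix.map_injective f.injective (show ((a.1 : GL ιm K) : Matrix ιm ιm K).map f = ((b.1 : GL ιm K) : Matrix ιm ιm K).map f by
    rw [← bcOm_mat f h2, ← bcOm_mat f h2, h]))))

end BaseChange

variable [Fintype F]

theorem center_bot (h2 : (2 : F) ≠ 0) (hm : 3 ≤ m) :
    Subgroup.center ↥(Cfsg.Omega F (Cfsg.quadFormOdd m F)) = ⊥ := by
  haveI hQ := octx_odd (F := F) hm h2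
  rw [eq_bot_iff]
  intro z hz
  set e := omegaEquiv (oddForm F m) (oddForm_apply m)
  have hz' : e z ∈ Subgroup.center (Om (oddForm F m)) := Subgroup.mem_center_iff.2 fun g => e.symm.injective (by
    simp only [map_mul, MulEquiv.symm_apply_apply]
    exact Subgroup.mem_center_iff.1 hz _)
  obtain ⟨c, hc, hv⟩ := center_scalar hz'
  have hd := ((mem_commutator_odd hQ.nd h2 _).1 (e z).2).1
  rw [show ((e z).1.1 : (ιm → F) →ₗ[F] (ιm → F)) = c • LinearMap.id from LinearMap.ext hv, LinearMap.det_smul,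
    LinearMap.det_id, mul_one, show Module.finrank F (ιm → F) = 2 * m + 1 by simp; omega, pow_succ, pow_mul] at hd
  have hc1 : c = 1 := by
    rcases hc with rfl | rfl
    · rfl
    · simpa using hd
  rw [Subgroup.mem_bot]
  refine e.injective (Subtype.ext (Subtype.ext (LinearEquiv.ext fun v => ?_)))
  rw [hv, hc1, one_smul, map_one]
  rfl

theorem mk_inj (h2 : (2 : F) ≠ 0) (hm : 3 ≤ m) {s t : ↥(Cfsg.Omega F (Cfsg.quadFormOdd m F))}
    (h : (QuotientGroup.mk s : Cfsg.POmega F (Cfsg.quadFormOdd m F)) = QuotientGroup.mk t) : s = t := by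
  have := QuotientGroup.eq.1 h
  rwa [center_bot h2 hm, Subgroup.mem_bot, inv_mul_eq_one] at this

/-- A semilinear map centralising the group over a subfield fixes its singular lines. -/
theorem singular_line (hm : 3 ≤ m) {K : Type u} [Field K] [Fintype K] (f : K →+* F) (h2 : (2 : F) ≠ 0)
    (T : (ιm → F) → (ιm → F))
    (hcomm : ∀ (s₀ : ↥(Cfsg.Omega K (Cfsg.quadFormOdd m K))) (y : ιm → F),
      T (((bcOm f h2 s₀).1 : GL ιm F).val *ᵥ y) = ((bcOm f h2 s₀).1 : GL ιm F).val *ᵥ T y)
    {v₀ : ιm → K} (hv0 : v₀ ≠ 0) (hv : oddForm K m v₀ = 0) :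
    ∃ l : F, T (fun i => f (v₀ i)) = l • fun i => f (v₀ i) := by
  classical
  haveI hQ := octx_odd (F := F) hm h2
  haveI hQK := octx_odd (F := K) hm (two_ne_source f h2)
  set v : ιm → F := fun i => f (v₀ i) with hvdef
  set x := T v
  have hvv : oddForm F m v = 0 := by rw [hvdef, quad_emb, hv, map_zero]
  have hact : ∀ u₀ : ιm → K, polar (oddForm K m) v₀ u₀ = 0 →
      polar (oddForm F m) v x • (fun i => f (u₀ i)) +
        (-(polar (oddForm F m) (fun i => f (u₀ i)) x) - oddForm F m (fun i => f (u₀ i)) * polar (oddForm F m) v x) • v = 0 := by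
    intro u₀ hu
    set u : ιm → F := fun i => f (u₀ i)
    set s₀ := (omegaEquiv (oddForm K m) (oddForm_apply m)).symm (sg (oddForm K m) v₀ u₀)
    have hs₀ : ∀ w, ((s₀.1 : GL ιm K) : Matrix ιm ιm K) *ᵥ w =
        w + polar (oddForm K m) v₀ w • u₀ +
          (-(polar (oddForm K m) u₀ w) - oddForm K m u₀ * polar (oddForm K m) v₀ w) • v₀ := fun w => by
      rw [← omegaEquiv_apply (oddForm K m) (oddForm_apply m), MulEquiv.apply_symm_apply, sg_apply hv hu]
    let B := QuadraticMap.polarBilin (oddForm F m)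
    have hform : Matrix.toLin' (((bcOm f h2 s₀).1 : GL ιm F).val) =
        LinearMap.id + (B v).smulRight u + (-(B u) - oddForm F m u • B v).smulRight v := by
      refine LinearMap.pi_ext' fun j => LinearMap.ext_ring ?_
      simp only [LinearMap.comp_apply, LinearMap.coe_single, Matrix.toLin'_apply, LinearMap.add_apply,
        LinearMap.id_coe, id_eq, LinearMap.smulRight_apply, LinearMap.sub_apply, LinearMap.neg_apply,
        LinearMap.smul_apply, smul_eq_mul, B, QuadraticMap.polarBilin_apply_apply]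
      have e : (Pi.single j 1 : ιm → F) = fun i => f ((Pi.single j 1 : ιm → K) i) := by
        funext i
        simp [Pi.single_apply, apply_ite f]
      rw [e, bcOm_mat, mulVec_emb, hs₀]
      rw [polar_emb, polar_emb, quad_emb]
      funext i
      simp [u, hvdef]
    have hfix : ∀ y, ((bcOm f h2 s₀).1 : GL ιm F).val *ᵥ y =
        y + polar (oddForm F m) v y • u + (-(polar (oddForm F m) u y) - oddForm F m u * polar (oddForm F m) v y) • v := fun y => by
      have := LinearMap.congr_fun hform y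
      simpa [Matrix.toLin'_apply, B] using this
    have huv : polar (oddForm F m) u v = 0 := by rw [polar_emb, polar_comm, hu, map_zero]
    have e := hcomm s₀ v
    rw [hfix, hfix, show polar (oddForm F m) v v = 0 by rw [polar_self', hvv, mul_zero], huv] at e
    simp only [zero_smul, neg_zero, mul_zero, sub_zero, add_zero] at e
    rw [add_assoc, left_eq_add] at e
    exact e
  obtain ⟨j, hj⟩ : ∃ j, polar (oddForm K m) v₀ (Pi.single j 1) ≠ 0 := by
    by_contra hcon
    push Not at hcon
    refine hv0 (eq_zero_of_polar hQK.nd fun w => ?_)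
    have h0 : QuadraticMap.polarBilin (oddForm K m) v₀ = 0 :=
      LinearMap.pi_ext' fun j => LinearMap.ext_ring (by simpa using hcon j)
    exact LinearMap.congr_fun h0 w
  set w₀ : ιm → K := (polar (oddForm K m) v₀ (Pi.single j 1))⁻¹ • Pi.single j 1
  have hw : polar (oddForm K m) v₀ w₀ = 1 := by rw [polar_smul_r', inv_mul_cancel₀ hj]
  set w : ιm → F := fun i => f (w₀ i)
  have hproj : ∀ i : ιm, ∃ u₀ : ιm → K, polar (oddForm K m) v₀ u₀ = 0 ∧
      (fun k => f (u₀ k)) = (Pi.single i 1 : ιm → F) - polar (oddForm F m) v (Pi.single i 1) • w := by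
    intro i
    refine ⟨Pi.single i 1 - polar (oddForm K m) v₀ (Pi.single i 1) • w₀, ?_, ?_⟩
    · rw [show polar (oddForm K m) v₀ (Pi.single i 1 - polar (oddForm K m) v₀ (Pi.single i 1) • w₀) =
        QuadraticMap.polarBilin (oddForm K m) v₀ (Pi.single i 1 - polar (oddForm K m) v₀ (Pi.single i 1) • w₀) from rfl,
        map_sub, map_smul, QuadraticMap.polarBilin_apply_apply, QuadraticMap.polarBilin_apply_apply, hw, smul_eq_mul,
        mul_one, sub_self]
    · have e : (Pi.single i 1 : ιm → F) = fun k => f ((Pi.single i 1 : ιm → K) k) := by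
        funext k
        simp [Pi.single_apply, apply_ite f]
      rw [e, polar_emb]
      funext k
      simp [w]
  have hzero : polar (oddForm F m) v x = 0 := by
    by_contra hne
    have hspan : ∀ i : ιm, (Pi.single i 1 : ιm → F) ∈ Submodule.span F {v, w} := by
      intro i
      obtain ⟨u₀, hu, he⟩ := hproj i
      have h := hact u₀ hu
      rw [he] at h
      rw [Submodule.mem_span_pair]
      set b := -(polar (oddForm F m) ((Pi.single i 1 : ιm → F) - polar (oddForm F m) v (Pi.single i 1) • w) x) -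
        oddForm F m ((Pi.single i 1 : ιm → F) - polar (oddForm F m) v (Pi.single i 1) • w) * polar (oddForm F m) v x
      refine ⟨-(polar (oddForm F m) v x)⁻¹ * b, polar (oddForm F m) v (Pi.single i 1), ?_⟩
      have h' := congrArg (fun y => (polar (oddForm F m) v x)⁻¹ • y) h
      simp only [smul_add, smul_smul, inv_mul_cancel₀ hne, one_smul, smul_zero] at h'
      linear_combination (norm := module) -h'
    have htop : (⊤ : Submodule F (ιm → F)) ≤ Submodule.span F {v, w} := by
      rw [← (Pi.basisFun F ιm).span_eq, Submodule.span_le]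
      rintro _ ⟨i, rfl⟩
      rw [Pi.basisFun_apply]
      exact hspan i
    have h1 := Submodule.finrank_mono htop
    have h3 := finrank_span_pair_le (F := F) v w
    rw [finrank_top, Module.finrank_fintype_fun_eq_card] at h1
    simp at h1
    omega
  have hvne : v ≠ 0 := fun h => hv0 (funext fun i => f.injective (by
    rw [show f (v₀ i) = v i from rfl, h]; simp))
  refine ⟨polar (oddForm F m) w x, sub_eq_zero.1 (eq_zero_of_polar hQ.nd fun y => ?_)⟩
  have h0 : QuadraticMap.polarBilin (oddForm F m) (x - polar (oddForm F m) w x • v) = 0 :=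
    LinearMap.pi_ext' fun i => LinearMap.ext_ring (by
      obtain ⟨u₀, hu, he⟩ := hproj i
      have h := hact u₀ hu
      rw [hzero, zero_smul, zero_add, mul_zero, sub_zero, smul_eq_zero] at h
      have h' := neg_eq_zero.1 (h.resolve_right hvne)
      rw [he] at h'
      simp only [LinearMap.comp_apply, LinearMap.coe_single, map_sub, map_smul, LinearMap.sub_apply, LinearMap.smul_apply,
        QuadraticMap.polarBilin_apply_apply, LinearMap.zero_apply, smul_eq_mul]
      have h'' : QuadraticMap.polarBilin (oddForm F m) ((Pi.single i 1 : ιm → F) - polar (oddForm F m) v (Pi.single i 1) • w) x = 0 := h'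
      simp only [map_sub, map_smul, LinearMap.sub_apply, LinearMap.smul_apply, QuadraticMap.polarBilin_apply_apply,
        smul_eq_mul] at h''
      rw [polar_comm _ x, mul_comm (polar (oddForm F m) w x)]
      exact h'')
  exact LinearMap.congr_fun h0 y

/-- An automorphism of order prime to `p` centralising the group over the fixed field is trivial. -/
theorem eq_one_of_fix (hm : 3 ≤ m) (h2 : (2 : F) ≠ 0) (σ : F ≃+* F) {p : ℕ} (hσ : orderOf σ = p)
    (n : MulAut (Cfsg.POmega F (Cfsg.quadFormOdd m F))) (hcop : (orderOf n).Coprime p)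
    (hfix : ∀ s₀, n (QuotientGroup.mk (bcOm (AutPSL.fixField σ).subtype h2 s₀)) =
      QuotientGroup.mk (bcOm (AutPSL.fixField σ).subtype h2 s₀)) : n = 1 := by
  classical
  haveI hQ := octx_odd (F := F) hm h2
  letI : Fintype (AutPSL.fixField σ) := Fintype.ofFinite _
  set f := (AutPSL.fixField σ).subtype
  obtain ⟨B, τ, hB, hB'⟩ := exists_semi (oddForm F m) (oddForm_apply m) n
  let T : (ιm → F) → (ιm → F) := fun y => (B : Matrix ιm ιm F) *ᵥ fun i => τ (y i)
  have hTadd : ∀ y z, T (y + z) = T y + T z := fun y z => by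
    simp only [T, ← Matrix.mulVec_add]; congr 1; funext i; simp
  have hTsmul : ∀ (a : F) y, T (a • y) = τ a • T y := fun a y => by
    simp only [T, ← Matrix.mulVec_smul]; congr 1; funext i; simp
  have hTinj : ∀ y, T y = 0 → y = 0 := fun y hy => by
    have h0 := congrArg (fun z => ((B⁻¹ : GL ιm F) : Matrix ιm ιm F) *ᵥ z) hy
    simp only [T, Matrix.mulVec_mulVec, Units.inv_mul, Matrix.one_mulVec, Matrix.mulVec_zero] at h0
    funext i
    simpa using congrFun h0 i
  have hcomm : ∀ (s₀ : ↥(Cfsg.Omega _ (Cfsg.quadFormOdd m (AutPSL.fixField σ)))) (y : ιm → F),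
      T (((bcOm f h2 s₀).1 : GL ιm F).val *ᵥ y) = ((bcOm f h2 s₀).1 : GL ιm F).val *ᵥ T y := by
    intro s₀ y
    set s := bcOm f h2 s₀
    obtain ⟨s', hs'⟩ := exists_semi_conj _ hB s
    have e : s' = s := mk_inj h2 hm (by rw [← hB' s s' hs', hfix])
    rw [e] at hs'
    conv_rhs => rw [hs']
    simp only [T]
    rw [Matrix.mulVec_mulVec, Matrix.mul_assoc, Units.inv_mul, Matrix.mul_one, ← Matrix.mulVec_mulVec]
    congr 1
    exact (POmegaAut.map_mulVec' τ _ y).symm
  have hline : ∀ v₀ : ιm → AutPSL.fixField σ, v₀ ≠ 0 → oddForm _ m v₀ = 0 →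
      ∃ l : F, T (fun i => f (v₀ i)) = l • fun i => f (v₀ i) :=
    fun v₀ h0 h => singular_line hm f h2 T hcomm h0 h
  choose! lam hlam using hline
  -- two orthogonal singular vectors
  have hpair : ∀ (v₀ w₀ : ιm → AutPSL.fixField σ) (a : AutPSL.fixField σ) (i j : ιm), a ≠ 0 → v₀ i = 1 → w₀ i = 0 →
      w₀ j = 1 → v₀ j = 0 → oddForm _ m v₀ = 0 → oddForm _ m w₀ = 0 → polar (oddForm _ m) v₀ w₀ = 0 →
      τ (f a) * lam w₀ = lam v₀ * f a := by
    intro v₀ w₀ a i j ha hvi hwi hwj hvj hv hw hvw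
    have hv0 : v₀ ≠ 0 := fun h => by simp [h] at hvi
    have hw0 : w₀ ≠ 0 := fun h => by simp [h] at hwj
    have hs0 : v₀ + a • w₀ ≠ 0 := fun h => by
      have := congrFun h i
      simp [hvi, hwi] at this
    have hsq : oddForm _ m (v₀ + a • w₀) = 0 := by
      rw [quad_add', quad_smul', polar_smul_r', hv, hw, hvw]; ring
    have e := hlam _ hs0 hsq
    have esplit : (fun k => f ((v₀ + a • w₀) k)) = (fun k => f (v₀ k)) + f a • fun k => f (w₀ k) := by
      funext k; simp
    rw [esplit, hTadd, hTsmul, hlam v₀ hv0 hv, hlam w₀ hw0 hw] at e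
    have ei := congrFun e i
    have ej := congrFun e j
    simp [hvi, hwi, hvj, hwj] at ei ej
    rw [ej, ei]
  let e₁ : Fin m → (ιm → AutPSL.fixField σ) := fun i => Pi.single (Sum.inr (Sum.inl i)) 1
  let f₁ : Fin m → (ιm → AutPSL.fixField σ) := fun i => Pi.single (Sum.inr (Sum.inr i)) 1
  have he : ∀ i, oddForm _ m (e₁ i) = 0 := fun i => by
    rw [← oddForm_apply]; simp [Cfsg.quadFormOdd, e₁, Pi.single_apply]
  have hf : ∀ i, oddForm _ m (f₁ i) = 0 := fun i => by
    rw [← oddForm_apply]; simp [Cfsg.quadFormOdd, f₁, Pi.single_apply]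
  have hee : ∀ i j, polar (oddForm _ m) (e₁ i) (e₁ j) = 0 := fun i j => by
    rw [oddForm_polar]; simp [e₁, Pi.single_apply]
  have hef : ∀ i j, i ≠ j → polar (oddForm _ m) (e₁ i) (f₁ j) = 0 := fun i j hij => by
    rw [oddForm_polar]; simp [e₁, f₁, Pi.single_apply, hij, Ne.symm hij]
  let i0 : Fin m := ⟨0, by omega⟩
  let i1 : Fin m := ⟨1, by omega⟩
  set L := lam (e₁ i0)
  have h01 : i0 ≠ i1 := by simp [i0, i1, Fin.ext_iff]
  have hEe : ∀ i j, i ≠ j → lam (e₁ j) = lam (e₁ i) := fun i j hij => by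
    have := hpair (e₁ i) (e₁ j) 1 (Sum.inr (Sum.inl i)) (Sum.inr (Sum.inl j)) one_ne_zero (by simp [e₁])
      (by simp [e₁, hij]) (by simp [e₁]) (by simp [e₁, Ne.symm hij]) (he i) (he j) (hee i j)
    simpa using this
  have hEall : ∀ i, lam (e₁ i) = L := fun i => by
    by_cases h : i = i0
    · rw [h]
    · exact hEe i0 i (Ne.symm h)
  have hFall : ∀ j, lam (f₁ j) = L := fun j => by
    obtain ⟨i, hij⟩ : ∃ i, i ≠ j := ⟨if j = i0 then i1 else i0, by
      split_ifs with h
      · rw [h]; exact Ne.symm h01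
      · exact Ne.symm h⟩
    have := hpair (e₁ i) (f₁ j) 1 (Sum.inr (Sum.inl i)) (Sum.inr (Sum.inr j)) one_ne_zero (by simp [e₁])
      (by simp [f₁]) (by simp [f₁]) (by simp [e₁]) (he i) (hf j) (hef i j hij)
    rw [← hEall i]
    simpa using this
  have hsingle : ∀ k : ιm, (fun i => f ((Pi.single k 1 : ιm → AutPSL.fixField σ) i)) = Pi.single k 1 := fun k => by
    funext i
    simp [Pi.single_apply, apply_ite f]
  have hne : ∀ k : ιm, (Pi.single k 1 : ιm → AutPSL.fixField σ) ≠ 0 := fun k h => by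
    simpa using congrFun h k
  have hTe : ∀ i, T (Pi.single (Sum.inr (Sum.inl i)) 1) = L • (Pi.single (Sum.inr (Sum.inl i)) 1 : ιm → F) := fun i => by
    have := hlam (e₁ i) (hne _) (he i)
    rw [hEall] at this
    simpa only [e₁, hsingle] using this
  have hTf : ∀ i, T (Pi.single (Sum.inr (Sum.inr i)) 1) = L • (Pi.single (Sum.inr (Sum.inr i)) 1 : ιm → F) := fun i => by
    have := hlam (f₁ i) (hne _) (hf i)
    rw [hFall] at this
    simpa only [f₁, hsingle] using this
  have hL : L ≠ 0 := fun h => by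
    have := hTinj _ (by rw [hTe i0, h, zero_smul])
    simpa using congrFun this (Sum.inr (Sum.inl i0))
  have hτ : ∀ c : F, σ c = c → τ c = c := by
    intro c hc
    by_cases h0 : c = 0
    · simp [h0]
    have := hpair (e₁ i0) (e₁ i1) ⟨c, hc⟩ (Sum.inr (Sum.inl i0)) (Sum.inr (Sum.inl i1))
      (fun h => h0 (congrArg Subtype.val h)) (by simp [e₁]) (by simp [e₁, h01]) (by simp [e₁])
      (by simp [e₁, Ne.symm h01]) (he i0) (he i1) (hee i0 i1)
    rw [hEall, hEall, mul_comm L] at this
    exact mul_right_cancel₀ hL this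
  -- the anisotropic basis vector
  set o : ιm → AutPSL.fixField σ := Pi.single (Sum.inl ()) 1 + e₁ i0 - f₁ i0 with ho
  have hoq : oddForm _ m o = 0 := by
    rw [← oddForm_apply]
    simp [Cfsg.quadFormOdd, o, e₁, f₁, Pi.single_apply]
  have hop : polar (oddForm _ m) o (e₁ i1) = 0 := by
    rw [oddForm_polar]
    simp [o, e₁, f₁, Pi.single_apply, h01, Ne.symm h01]
  have hlo : lam o = L := by
    have := hpair o (e₁ i1) 1 (Sum.inl ()) (Sum.inr (Sum.inl i1)) one_ne_zero (by simp [o, e₁, f₁])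
      (by simp [e₁]) (by simp [e₁]) (by simp [o, e₁, f₁, h01, Ne.symm h01]) hoq (he i1) hop
    rw [← hEall i1]
    simpa using this.symm
  have hTo : T (Pi.single (Sum.inl ()) 1) = L • (Pi.single (Sum.inl ()) 1 : ιm → F) := by
    have h := hlam o (fun h => by simpa [o, e₁, f₁] using congrFun h (Sum.inl ())) hoq
    rw [hlo, show (fun i => f (o i)) = (Pi.single (Sum.inl ()) 1 : ιm → F) +
        Pi.single (Sum.inr (Sum.inl i0)) 1 + (-1 : F) • Pi.single (Sum.inr (Sum.inr i0)) 1 from by
      rw [← hsingle, ← hsingle, ← hsingle]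
      funext i
      simp [o, e₁, f₁, sub_eq_add_neg], hTadd, hTadd, hTsmul, hTe, hTf, map_neg, map_one] at h
    linear_combination (norm := module) h
  have hBmat : (B : Matrix ιm ιm F) = L • 1 := by
    refine Matrix.ext_of_mulVec_single fun k => ?_
    have e : (B : Matrix ιm ιm F) *ᵥ Pi.single k 1 = T (Pi.single k 1) := by
      simp only [T]
      congr 1
      funext i
      simp [Pi.single_apply, apply_ite τ]
    rw [e, Matrix.smul_mulVec, Matrix.one_mulVec]
    rcases k with ⟨⟩ | k | k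
    · exact hTo
    · exact hTe k
    · exact hTf k
  obtain ⟨π, hπ, -⟩ := exists_field_hom (oddForm F m) (oddForm_apply m)
  have hτn : τ ^ orderOf n = 1 := by rw [← hπ B τ n ⟨hB, hB'⟩, ← map_pow, pow_orderOf_eq_one, map_one]
  haveI : Finite (F ≃+* F) := Finite.of_injective (fun g : F ≃+* F => (g : F → F)) DFunLike.coe_injective
  have hτ1 : τ = 1 := AutPSU.Balance.eq_one_of_zpowers (AutPSU.Balance.zpowers_of_fix σ τ hτ) hτn (hσ ▸ hcop)
  subst hτ1
  have h1 : IsSemiInduced (Cfsg.quadFormOdd m F) B (RingEquiv.refl F) 1 := by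
    refine ⟨hB, fun s s' hs' => mk_eq_of_mat ?_⟩
    have hinv : (B⁻¹ : GL ιm F).val = L⁻¹ • 1 := left_inv_eq_right_inv (Units.inv_mul B) (by
      rw [hBmat, Matrix.smul_mul, Matrix.one_mul, smul_smul, mul_inv_cancel₀ hL, one_smul])
    rw [hs', hinv, hBmat, Matrix.smul_mul, Matrix.one_mul, Matrix.smul_mul, Matrix.mul_smul, Matrix.mul_one, smul_smul,
      mul_inv_cancel₀ hL, one_smul]
    exact Matrix.ext fun _ _ => rfl
  exact induced_unique ⟨hB, hB'⟩ h1

end CfsgLib.KnownC.AutPOmega.Balance
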